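import Cfsg.Agent.Lib.RankThreeChar.Small
import Cfsg.Agent.Lib.RankThreeNormal.Transv

/-!
A common invariant subgroup with quotient of order `p ^ 3`: the group has central commutators.
-/

set_option autoImplicit false
set_option linter.unusedSectionVars false
set_option linter.style.haveILetI false
set_option maxHeartbeats 1000000

open scoped commutatorElement
open Cfsg.Agent.RankThreeEss Cfsg.Agent.RankThreeNormal

namespace Cfsg.Agent.RankThreeChar

variable {G : Type*} [Group G] {p : ℕ} [hp : Fact p.Prime] [Finite G]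

theorem exists_sqrt (hG : IsPGroup p G) (hp2 : p ≠ 2) (e : G) : ∃ m : ℕ, e = (e ^ m) ^ 2 := by
  obtain ⟨n, hn⟩ := hG e
  obtain ⟨m, hm⟩ := (hp.out.odd_of_ne_two hp2).pow (n := n)
  refine ⟨m + 1, ?_⟩
  rw [← pow_mul, show (m + 1) * 2 = p ^ n + 1 by omega, pow_succ, hn, one_mul]

theorem eq_one_of_self_inv (hG : IsPGroup p G) (hp2 : p ≠ 2) {r : G} (h : r = r⁻¹) : r = 1 := by
  obtain ⟨m, hm⟩ := exists_sqrt hG hp2 r
  rw [hm, ← pow_mul, mul_comm, pow_mul, sq, eq_inv_iff_mul_eq_one.1 h, one_pow]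

variable (D : Duo p G) (hG : IsPGroup p G) (hsec : Cfsg.SectionalPRankLE p 3 G) {Q : Subgroup G} [Q.Normal]
  (hQ : Com D.f Q) (hc : Nat.card (G ⧸ Q) = p ^ 3) (hp2 : p ≠ 2)
include hG hsec hQ hc

theorem comm_mem_member {E : Subgroup G} (hE : E ∈ D.f.ess) (a b : G) : ⁅a, b⁆ ∈ E := by
  haveI := D.f.normal E hE
  exact phi_le_member hG (D.f.index E hE) ⊤ (comm_mem_phi hG (Subgroup.mem_top a) (Subgroup.mem_top b))

theorem card_meet {E E' : Subgroup G} (hE : E ∈ D.f.ess) (hE' : E' ∈ D.f.ess) (hne : E ≠ E') :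
    Nat.card (E ⊓ E' : Subgroup G) ≤ p * Nat.card Q := by
  obtain ⟨e, he, heI⟩ := inf_lt (D.f.index E hE) (D.f.index E' hE') hne
  have h := step hG (inf_le_left : E ⊓ E' ≤ E) he heI
  rw [card_member D hG hsec hQ hc hE, pow_two, mul_assoc] at h
  exact Nat.le_of_mul_le_mul_left h hp.out.pos

include hp2

/-- An element of order prime to `p` in `kgen` inverting the top of the member. -/
theorem exists_inverting {E : Subgroup G} (hE : E ∈ D.f.ess) [E.Normal] :
    ∃ d ∈ kgen D.f E, ¬ p ∣ orderOf d ∧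
      ∀ e ∈ E, QuotientGroup.mk' Q (app d e) = (QuotientGroup.mk' Q e)⁻¹ := by
  set π := QuotientGroup.mk' Q with hπ
  obtain ⟨Ebar, rfl⟩ : ∃ Ebar : Subgroup (G ⧸ Q), E = Ebar.comap π :=
    ⟨E.map π, (Subgroup.comap_map_eq_self (by rw [hπ, QuotientGroup.ker_mk']; exact hQ.le E hE)).symm⟩
  have hQE : Q ≤ Ebar.comap π := hQ.le _ hE
  obtain ⟨g, a, ha, hzQ, hzE⟩ := exists_comm D hG hsec hQ hc hE
  set z := ⁅g, a⁆
  obtain ⟨E', hE', hne, -, -⟩ := exists_other D hE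
  haveI := D.f.normal E' hE'
  have hzI : z ∈ Ebar.comap π ⊓ E' := ⟨hzE, comm_mem_member D hG hsec hQ hc hE' g a⟩
  have hgI : ∀ r ∈ Ebar.comap π ⊓ E', ⁅g, r⁆ ∈ Q := fun r hr =>
    commutator_mem_of_step hG (le_inf hQE (hQ.le E' hE')) (card_meet D hG hsec hQ hc hE hE' hne.symm) hr g
  have haX : a ∉ Q ⊔ Subgroup.zpowers z := fun h => hzQ (hgI a
    (sup_le (le_inf hQE (hQ.le E' hE')) (Subgroup.zpowers_le.2 hzI) h))
  set Z := π z with hZ
  set A := π a with hA
  have hgen : Q ⊔ Subgroup.zpowers z ⊔ Subgroup.zpowers a = Ebar.comap π := by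
    refine Subgroup.eq_of_le_of_card_ge (sup_le (sup_le hQE (Subgroup.zpowers_le.2 hzE)) (Subgroup.zpowers_le.2 ha)) ?_
    rw [card_member D hG hsec hQ hc hE, pow_two, mul_assoc]
    exact (Nat.mul_le_mul_left _ (step hG le_sup_left (Subgroup.mem_sup_right (Subgroup.mem_zpowers z)) hzQ)).trans
      (step hG le_sup_left (Subgroup.mem_sup_right (Subgroup.mem_zpowers a)) haX)
  haveI : (Q ⊔ Subgroup.zpowers z).Normal := by
    rw [show Q ⊔ Subgroup.zpowers z = Ebar.comap π ⊓ E' from Subgroup.eq_of_le_of_card_ge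
      (sup_le (le_inf hQE (hQ.le E' hE')) (Subgroup.zpowers_le.2 hzI))
      ((card_meet D hG hsec hQ hc hE hE' hne.symm).trans
        (step hG le_sup_left (Subgroup.mem_sup_right (Subgroup.mem_zpowers z)) hzQ))]
    infer_instance
  have hexp : ∀ e ∈ Ebar.comap π, π e ^ p = 1 := fun e he => by
    rw [← map_pow]; exact (QuotientGroup.eq_one_iff _).2 (phi_member D hG hsec hQ hc hE (pow_mem_phi hG he))
  have hcomm : ∀ e ∈ Ebar.comap π, ∀ e' ∈ Ebar.comap π, Commute (π e) (π e') := fun e he e' he' => by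
    rw [← commutatorElement_eq_one_iff_commute, ← map_commutatorElement]
    exact (QuotientGroup.eq_one_iff _).2 (phi_member D hG hsec hQ hc hE (comm_mem_phi hG he he'))
  have hZp : Z ^ p = 1 := hexp z hzE
  have hAp : A ^ p = 1 := hexp a ha
  have hZ1 : Z ≠ 1 := fun h => hzQ ((QuotientGroup.eq_one_iff z).1 h)
  have hcoord : ∀ r ∈ Ebar, ∃ i j : ZMod p, r = ev Z i * ev A j := fun r hr => by
    obtain ⟨e, rfl⟩ := QuotientGroup.mk'_surjective Q r
    obtain ⟨u, hu, w, hw, rfl⟩ := Subgroup.mem_sup_of_normal_left.1 (show e ∈ (Q ⊔ Subgroup.zpowers z) ⊔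
      Subgroup.zpowers a from hgen.ge hr) |> fun h => h
    obtain ⟨v, hv, s, hs, rfl⟩ := Subgroup.mem_sup_of_normal_left.1 hu
    obtain ⟨i, hi⟩ := exists_ev hZp (show π s ∈ Subgroup.zpowers Z by
      obtain ⟨k, rfl⟩ := Subgroup.mem_zpowers_iff.1 hs; exact Subgroup.mem_zpowers_iff.2 ⟨k, (map_zpow π z k).symm⟩)
    obtain ⟨j, hj⟩ := exists_ev hAp (show π w ∈ Subgroup.zpowers A by
      obtain ⟨k, rfl⟩ := Subgroup.mem_zpowers_iff.1 hw; exact Subgroup.mem_zpowers_iff.2 ⟨k, (map_zpow π a k).symm⟩)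
    exact ⟨i, j, by rw [map_mul, map_mul, show π v = 1 from (QuotientGroup.eq_one_iff v).2 hv, one_mul, hi, hj]⟩
  have hZE : Z ∈ Ebar := hzE
  have hAE : A ∈ Ebar := ha
  -- the image of the conjugation
  obtain ⟨gb, hgb⟩ := exists_image (MulAut.conjNormal g : MulAut (Ebar.comap π))
    (inv_of_com D hQ hE (D.f.conj_mem hE g))
  have hgZ : app gb Z = Z := by
    rw [hZ, hgb z hzE, app_conjNormal g hzE, show g * z * g⁻¹ = ⁅g, z⁆ * z by rw [commutatorElement_def]; group,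
      map_mul, show π ⁅g, z⁆ = 1 from (QuotientGroup.eq_one_iff _).2 (hgI z hzI), one_mul]
  have hgA : app gb A = Z * A := by
    rw [hA, hgb a ha, app_conjNormal g ha, ← map_mul]
    congr 1
    show _ = ⁅g, a⁆ * a
    rw [commutatorElement_def]; group
  have hgcoord : ∀ i j : ZMod p, app gb (ev Z i * ev A j) = ev Z i * ev A j * ev Z j := fun i j => by
    rw [app_mul gb (ev_mem hZE i) (ev_mem hAE j), app_ev gb hZE, app_ev gb hAE, hgZ, hgA]
    show _ * (Z * A) ^ j.val = _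
    rw [(hcomm z hzE a ha).mul_pow, mul_assoc]
    congr 1
    exact ((hcomm z hzE a ha).pow_pow _ _).eq
  -- an automorphism moving the fixed line
  obtain ⟨b, hb, hbz⟩ : ∃ b ∈ D.f.aut (Ebar.comap π), app b z ∉ Q ⊔ Subgroup.zpowers z := by
    by_contra! hall
    refine haX ((dich D hG hsec hQ hc hE (le_sup_left) (sup_le hQE (Subgroup.zpowers_le.2 hzE))
      (fun b hb r hr => ?_) (Subgroup.mem_sup_right (Subgroup.mem_zpowers z)) hzQ).ge ha)
    obtain ⟨u, hu, w, hw, rfl⟩ := Subgroup.mem_sup_of_normal_left.1 hr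
    obtain ⟨k, rfl⟩ := Subgroup.mem_zpowers_iff.1 hw
    rw [app_mul b (hQE hu) (zpow_mem hzE k), app_zpow b hzE]
    exact mul_mem (Subgroup.mem_sup_left (hQ.inv _ hE b hb u hu)) (zpow_mem (hall b hb) k)
  obtain ⟨bb, hbb⟩ := exists_image b (inv_of_com D hQ hE hb)
  set X := app bb Z with hX
  have hXE : X ∈ Ebar := app_mem bb hZE
  obtain ⟨i, j, hij⟩ := hcoord X hXE
  have hj : j ≠ 0 := fun h => hbz (by
    rw [h, ev_zero, mul_one, hX, hZ, hbb z hzE, ← map_ev] at hij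
    have h1 := QuotientGroup.eq.1 hij.symm
    rw [sup_comm]
    have h2 := Subgroup.mul_mem_sup (ev_mem (Subgroup.mem_zpowers z) i) h1
    rwa [mul_inv_cancel_left] at h2)
  set U := app bb⁻¹ Z with hU
  have hUE : U ∈ Ebar := app_mem bb⁻¹ hZE
  obtain ⟨i', j', hij'⟩ := hcoord U hUE
  have hbU : app bb U = Z := app_app_inv bb Z
  have hj' : j' ≠ 0 := fun h => hbz (by
    rw [hij', h, ev_zero, mul_one, app_ev bb hZE] at hbU
    have hi' : i' ≠ 0 := fun h0 => hZ1 (by rw [← hbU, h0, ev_zero])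
    have hXz : X ∈ Subgroup.zpowers Z := mem_of_ev (by rw [hX, hZ, hbb z hzE]; exact hexp _ (app_mem b hzE)) hi'
      (by rw [hbU]; exact Subgroup.mem_zpowers Z)
    obtain ⟨k, hk⟩ := Subgroup.mem_zpowers_iff.1 hXz
    rw [hX, hZ, hbb z hzE, ← map_zpow] at hk
    have h1 := QuotientGroup.eq.1 hk
    rw [sup_comm]
    have h2 := Subgroup.mul_mem_sup (zpow_mem (Subgroup.mem_zpowers z) k) h1
    rwa [mul_inv_cancel_left] at h2)
  set gb' : MulAut Ebar := bb * gb * bb⁻¹ with hgb'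
  have hg'X : app gb' X = X := by rw [hgb', app_mul_aut, app_mul_aut, hX, app_inv_app, hgZ]
  have hg'Z : app gb' Z = Z * ev X j' := by
    rw [hgb', app_mul_aut, app_mul_aut, ← hU, hij', hgcoord,
      app_mul bb (mul_mem (ev_mem hZE i') (ev_mem hAE j')) (ev_mem hZE j'), ← hij', hbU, app_ev bb hZE, ← hX]
  have hXZ : Commute X Z := by
    rw [hX, hZ, hbb z hzE]; exact hcomm _ (app_mem b hzE) z hzE
  obtain ⟨w, hw, hwX, hwZ, -⟩ := exists_neg hXE hZE hXZ
    (by rw [hX, hZ, hbb z hzE]; exact hexp _ (app_mem b hzE)) hZp hj hj' (by rw [hij, hgcoord]) hgZ hg'Z hg'X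
  have hEc : ∀ r ∈ Ebar, ∀ s ∈ Ebar, Commute r s := fun r hr s hs => by
    obtain ⟨r, rfl⟩ := QuotientGroup.mk'_surjective Q r
    obtain ⟨s, rfl⟩ := QuotientGroup.mk'_surjective Q s
    exact hcomm r hr s hs
  let S : Subgroup (G ⧸ Q) :=
    { carrier := {r | r ∈ Ebar ∧ app w r = r⁻¹}
      one_mem' := ⟨one_mem _, by rw [app_one, inv_one]⟩
      mul_mem' := fun {r s} hr hs => ⟨mul_mem hr.1 hs.1, by
        rw [app_mul w hr.1 hs.1, hr.2, hs.2, mul_inv_rev, (hEc r hr.1 s hs.1).inv_inv.eq]⟩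
      inv_mem' := fun {r} hr => ⟨inv_mem hr.1, by rw [app_inv w hr.1, hr.2]⟩ }
  have hZS : Z ∈ S := ⟨hZE, hwZ⟩
  have hAS : A ∈ S := mem_of_ev hAp hj (by
    rw [show ev A j = (ev Z i)⁻¹ * X by rw [hij, inv_mul_cancel_left]]
    exact mul_mem (inv_mem (ev_mem hZS i)) ⟨hXE, hwX⟩)
  let L : Subgroup (MulAut Ebar) :=
    { carrier := {c | ∃ c₀ ∈ kgen D.f (Ebar.comap π), ∀ x ∈ Ebar.comap π, app c (π x) = π (app c₀ x)}
      one_mem' := ⟨1, one_mem _, fun x _ => by rw [app_one_aut, app_one_aut]⟩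
      mul_mem' := by
        rintro c c' ⟨a, ha, h⟩ ⟨a', ha', h'⟩
        exact ⟨a * a', mul_mem ha ha', fun x hx => by
          rw [app_mul_aut, app_mul_aut, h' x hx, h _ (app_mem a' hx)]⟩
      inv_mem' := by
        rintro c ⟨a, ha, h⟩
        exact ⟨a⁻¹, inv_mem ha, fun x hx => app_inj c (by rw [app_app_inv, h _ (app_mem a⁻¹ hx), app_app_inv])⟩ }
  obtain ⟨w₀, hw₀, hww⟩ : w ∈ L := (Subgroup.closure_le L).2 (by
    rintro c (rfl | rfl)
    · exact ⟨_, conj_mem_kgen D.f g, hgb⟩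
    · refine ⟨_, gen_mem D.f hb g, fun x hx => ?_⟩
      have h1 : app bb⁻¹ (π x) = π (app b⁻¹ x) := app_inj bb (by
        rw [app_app_inv, hbb _ (app_mem b⁻¹ hx), app_app_inv])
      rw [hgb', app_mul_aut, app_mul_aut, h1, hgb _ (app_mem b⁻¹ hx),
        hbb _ (app_mem _ (app_mem b⁻¹ hx)), app_mul_aut, app_mul_aut]) hw
  have hinv : ∀ e ∈ Ebar.comap π, π (app w₀ e) = (π e)⁻¹ := fun e he => by
    rw [← hww e he]
    obtain ⟨i, j, hr⟩ := hcoord (π e) he
    exact (hr ▸ mul_mem (ev_mem hZS i) (ev_mem hAS j) : π e ∈ S).2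
  obtain ⟨k, m, hm, hkm⟩ := Nat.exists_eq_pow_mul_and_not_dvd (orderOf_pos w₀).ne' p hp.out.ne_one
  refine ⟨w₀ ^ p ^ k, pow_mem hw₀ _, fun hdvd => hm (hdvd.trans (orderOf_dvd_of_pow_eq_one ?_)), ?_⟩
  · rw [← pow_mul, ← hkm, pow_orderOf_eq_one]
  obtain ⟨n, hn⟩ := (hp.out.odd_of_ne_two hp2).pow (n := k)
  rw [hn]
  clear hn
  induction n with
  | zero => intro e he; rw [mul_zero, zero_add, pow_one]; exact hinv e he
  | succ n ih =>
    intro e he
    rw [show 2 * (n + 1) + 1 = (2 * n + 1) + 1 + 1 by omega, pow_succ, pow_succ, app_mul_aut, app_mul_aut,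
      ih _ (app_mem _ (app_mem _ he)), hinv _ (app_mem _ he), hinv e he, inv_inv]

/-- Every element of a member is an inverted element times an element of `Q`. -/
theorem exists_inverted {E : Subgroup G} (hE : E ∈ D.f.ess) [E.Normal] {e : G} (he : e ∈ E) :
    ∃ x ∈ E, x⁻¹ * e ∈ Q ∧ x ^ p = 1 ∧ ∀ v ∈ Q, Commute x v := by
  obtain ⟨d, hd, hdo, hdi⟩ := exists_inverting D hG hsec hQ hc hp2 hE
  have hQE := hQ.le E hE
  have hfix : ∀ v ∈ Q, app d v = v :=
    fix_of_central hG hQE (hQ.inv E hE) (all_cV D hG hsec hQ hc) hd hdo hE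
  have hdd : d ^ 2 = 1 := eq_one_of_top hG hQE (fun h => hdo (h.trans (orderOf_pow_dvd 2)))
    (fun v hv => by rw [pow_two, app_mul_aut, hfix v hv, hfix v hv]) fun y hy => Subgroup.mem_sup_left
    (QuotientGroup.eq.1 (show QuotientGroup.mk' Q y = QuotientGroup.mk' Q (app (d ^ 2) y) by
      rw [pow_two, app_mul_aut, hdi _ (app_mem d hy), hdi y hy, inv_inv]))
  obtain ⟨m, hm⟩ := exists_sqrt hG hp2 e
  set s := e ^ m
  have hs : s ∈ E := pow_mem he m
  set x := (s⁻¹ * app d s)⁻¹ with hx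
  have hxE : x ∈ E := inv_mem (mul_mem (inv_mem hs) (app_mem d hs))
  have hdx : app d x = x⁻¹ := by
    rw [hx, mul_inv_rev, inv_inv, app_mul d (inv_mem (app_mem d hs)) hs, app_inv d (app_mem d hs), ← app_mul_aut,
      ← pow_two, hdd, app_one_aut, mul_inv_rev, inv_inv]
  have hπx : QuotientGroup.mk' Q x = QuotientGroup.mk' Q e := by
    conv_rhs => rw [hm]
    rw [hx, map_inv, map_mul, map_inv, hdi s hs, map_pow (QuotientGroup.mk' Q) s 2]; group
  clear_value x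
  refine ⟨x, hxE, QuotientGroup.eq.1 (show QuotientGroup.mk' Q x = QuotientGroup.mk' Q e from hπx), ?_, fun v hv => ?_⟩
  · have hxp : x ^ p ∈ Q := phi_member D hG hsec hQ hc hE (pow_mem_phi hG hxE)
    refine eq_one_of_self_inv hG hp2 ?_
    have h := hfix _ hxp
    rw [app_pow d hxE, hdx, inv_pow] at h
    exact h.symm
  · have hv' : x * v * x⁻¹ ∈ Q := Subgroup.Normal.conj_mem inferInstance v hv x
    have h := hfix _ hv'
    rw [app_mul d (mul_mem hxE (hQE hv)) (inv_mem hxE), app_mul d hxE (hQE hv), app_inv d hxE, hdx, hfix v hv,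
      inv_inv] at h
    have h2 : Commute (x ^ 2) v := by
      show x ^ 2 * v = v * x ^ 2
      calc x ^ 2 * v = x * (x * v * x⁻¹) * x := by rw [pow_two]; group
        _ = x * (x⁻¹ * v * x) * x := by rw [h]
        _ = v * x ^ 2 := by rw [pow_two]; group
    obtain ⟨k, hk⟩ := exists_sqrt hG hp2 x
    rw [hk, ← pow_mul, mul_comm, pow_mul]
    exact h2.pow_left k

/-- `Q` is central. -/
theorem central_com {v : G} (hv : v ∈ Q) (g : G) : Commute g v := by
  obtain ⟨A, hA⟩ := D.exists_mem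
  obtain ⟨B, hB, hne, -⟩ := D.two A hA
  haveI := D.f.normal A hA
  haveI := D.f.normal B hB
  set Cn := Subgroup.centralizer (Q : Set G)
  have hle : ∀ E ∈ D.f.ess, E ≤ Cn ⊔ Q := fun E hE e he => by
    haveI := D.f.normal E hE
    obtain ⟨x, -, hxe, -, hxQ⟩ := exists_inverted D hG hsec hQ hc hp2 hE he
    have h := Subgroup.mul_mem_sup (show x ∈ Cn from Subgroup.mem_centralizer_iff.2 fun r hr => (hxQ r hr).eq.symm) hxe
    rwa [mul_inv_cancel_left] at h
  obtain ⟨r, hr, hrI⟩ := inf_lt (D.f.index A hA) (D.f.index B hB) hne.symm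
  have htop : Cn ⊔ Q = ⊤ := eq_top_of_index (D.f.index B hB) (hle B hB) (hle A hA hr) fun h => hrI ⟨hr, h⟩
  suffices habel : ∀ a ∈ Q, ∀ b ∈ Q, Commute a b by
    have : Cn = ⊤ := by
      rw [← htop, left_eq_sup]
      exact fun a ha => Subgroup.mem_centralizer_iff.2 fun b hb => (habel b hb a ha).eq
    exact (Subgroup.mem_centralizer_iff.1 (this.ge (Subgroup.mem_top g)) v hv).symm
  by_contra hna
  set Zq := Q ⊓ Cn with hZq
  set T := phi Q ⊔ Zq with hT
  have hTQ : T ≤ Q := sup_le (phi_le Q) inf_le_left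
  have hfr : ∀ K : Subgroup G, K ≤ Q → Q ≤ K ⊔ phi Q → Q ≤ K := fun K hK h => by
    have h1 : (K ⊔ phi Q).subgroupOf Q = ⊤ := Subgroup.subgroupOf_eq_top.2 h
    rw [Subgroup.subgroupOf_sup hK (phi_le Q),
      show (phi Q).subgroupOf Q = frattini Q from Subgroup.comap_map_eq_self_of_injective Q.subtype_injective _] at h1
    exact Subgroup.subgroupOf_eq_top.1 (frattini_nongenerating h1)
  obtain ⟨q₀, hq₀, hq₀T⟩ : ∃ q₀ ∈ Q, q₀ ∉ T := by
    by_contra! h
    exact hna fun a ha b hb => (Subgroup.mem_centralizer_iff.1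
      (hfr Zq inf_le_left (fun r hr => by rw [sup_comm]; exact h r hr) hb).2 a ha)
  obtain ⟨q₁, hq₁, hq₁T⟩ : ∃ q₁ ∈ Q, q₁ ∉ T ⊔ Subgroup.zpowers q₀ := by
    by_contra! h
    have h1 := hfr (Zq ⊔ Subgroup.zpowers q₀) (sup_le inf_le_left (Subgroup.zpowers_le.2 hq₀)) fun r hr => by
      rw [sup_comm, ← sup_assoc]; exact h r hr
    have h2 : Zq ⊔ Subgroup.zpowers q₀ ≤ Subgroup.centralizer {q₀} :=
      sup_le (fun r hr => Subgroup.mem_centralizer_singleton_iff.2
        (Subgroup.mem_centralizer_iff.1 hr.2 q₀ hq₀).symm)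
        (Subgroup.zpowers_le.2 (Subgroup.mem_centralizer_singleton_iff.2 rfl))
    refine hna fun a ha b hb => ?_
    have h3 : Zq ⊔ Subgroup.zpowers q₀ ≤ Subgroup.centralizer {a} :=
      sup_le (fun r hr => Subgroup.mem_centralizer_singleton_iff.2
        (Subgroup.mem_centralizer_iff.1 hr.2 a ha).symm)
        (Subgroup.zpowers_le.2 (Subgroup.mem_centralizer_singleton_iff.2
          (Subgroup.mem_centralizer_singleton_iff.1 (h2 (h1 ha))).symm))
    exact (Subgroup.mem_centralizer_singleton_iff.1 (h3 (h1 hb))).symm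
  have hsize : p * (p * Nat.card T) ≤ Nat.card Q :=
    (Nat.mul_le_mul_left p (step hG le_sup_left (Subgroup.mem_sup_right (Subgroup.mem_zpowers q₀)) hq₀T)).trans
      (step hG (sup_le hTQ (Subgroup.zpowers_le.2 hq₀)) hq₁ hq₁T)
  haveI : T.Normal := inferInstance
  have hQA := hQ.le A hA
  set τ := QuotientGroup.mk' T
  have h := section_le hsec (hTQ.trans hQA) (fun e he e' he' => ?_) fun e he => ?_
  · rw [card_member D hG hsec hQ hc hA] at h
    have h1 := (Nat.mul_le_mul_left (p ^ 2) hsize).trans h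
    have h2 : p ^ 4 * Nat.card T ≤ p ^ 3 * Nat.card T := le_of_eq_of_le (by ring) h1
    have h3 := (Nat.pow_le_pow_iff_right hp.out.one_lt).1 (Nat.le_of_mul_le_mul_right h2 Nat.card_pos)
    omega
  · obtain ⟨x, hx, hxe, -, hxQ⟩ := exists_inverted D hG hsec hQ hc hp2 hA he
    obtain ⟨x', hx', hxe', -, hxQ'⟩ := exists_inverted D hG hsec hQ hc hp2 hA he'
    refine (QuotientGroup.eq_one_iff _).1 (show τ _ = 1 from ?_)
    have c1 : Commute (τ x) (τ x') := by
      rw [← commutatorElement_eq_one_iff_commute, ← map_commutatorElement]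
      refine (QuotientGroup.eq_one_iff _).2 (Subgroup.mem_sup_right ⟨phi_member D hG hsec hQ hc hA
        (comm_mem_phi hG hx hx'), ?_⟩)
      exact Subgroup.mem_centralizer_iff.2 fun b hb => ((Commute.mul_left (Commute.mul_left (Commute.mul_left
        (hxQ b hb) (hxQ' b hb)) (hxQ b hb).inv_left) (hxQ' b hb).inv_left).eq).symm
    have c2 : Commute (τ (x⁻¹ * e)) (τ (x'⁻¹ * e')) := by
      rw [← commutatorElement_eq_one_iff_commute, ← map_commutatorElement]
      exact (QuotientGroup.eq_one_iff _).2 (Subgroup.mem_sup_left (comm_mem_phi hG hxe hxe'))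
    rw [map_commutatorElement, commutatorElement_eq_one_iff_commute, show e = x * (x⁻¹ * e) by group,
      show e' = x' * (x'⁻¹ * e') by group, map_mul τ x, map_mul τ x']
    exact Commute.mul_left (c1.mul_right ((hxQ _ hxe').map τ))
      (((hxQ' _ hxe).symm.map τ).mul_right c2)
  · obtain ⟨x, -, hxe, hxp, hxQ⟩ := exists_inverted D hG hsec hQ hc hp2 hA he
    rw [show e = x * (x⁻¹ * e) by group, (hxQ _ hxe).mul_pow, hxp, one_mul]
    exact Subgroup.mem_sup_left (pow_mem_phi hG hxe)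

/-- The intersection of the members commutes with each member. -/
theorem meet_central {E E' : Subgroup G} (hE : E ∈ D.f.ess) (hE' : E' ∈ D.f.ess) (hne : E ≠ E') {y z : G}
    (hy : y ∈ E') (hz : z ∈ E ⊓ E') : Commute y z := by
  haveI := D.f.normal E hE
  haveI := D.f.normal E' hE'
  have hQE := hQ.le E hE
  set π := QuotientGroup.mk' Q with hπ
  have hcenQ : ∀ v ∈ Q, ∀ g : G, Commute g v := fun v hv g => central_com D hG hsec hQ hc hp2 hv g
  have hgI : ∀ r ∈ E ⊓ E', ∀ g, ⁅g, r⁆ ∈ Q := fun r hr g =>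
    commutator_mem_of_step hG (le_inf hQE (hQ.le E' hE')) (card_meet D hG hsec hQ hc hE hE' hne) hr g
  obtain ⟨d, hd, hdo, hdi⟩ := exists_inverting D hG hsec hQ hc hp2 hE
  obtain ⟨a₁, ha₁, hn₁, hmod⟩ := normalise D hG hQ hE (kgen D.f E) (kgen_le D.f hE) (conj_mem_kgen D.f) hd
    fun g => ⟨g, fun x hx => by
      have h1 : app d⁻¹ x ∈ E := app_mem _ hx
      have h2 : π (app d⁻¹ x) = (π x)⁻¹ := inv_injective (by rw [← hdi _ h1, app_app_inv, inv_inv])
      rw [app_mul_aut, app_mul_aut, app_conjNormal g h1, hdi _ (Subgroup.Normal.conj_mem inferInstance _ h1 g)]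
      rw [map_mul π (g * app d⁻¹ x), map_mul π g, map_mul π (g * x), map_mul π g, h2, map_inv π g]
      group⟩
  have hinv₁ : ∀ e ∈ E, π (app a₁ e) = (π e)⁻¹ := fun e he => (hmod e he).trans (hdi e he)
  have hit : ∀ n : ℕ, (∀ g : G, ∃ g' : G, ∀ x ∈ E, app (a₁ ^ n) (g * x * g⁻¹) = g' * app (a₁ ^ n) x * g'⁻¹) ∧
      ∀ e ∈ E, π (app (a₁ ^ (2 * n + 1)) e) = (π e)⁻¹ := by
    intro n
    induction n with
    | zero =>
      exact ⟨fun g => ⟨g, fun x _ => by rw [pow_zero, app_one_aut, app_one_aut]⟩,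
        fun e he => by rw [mul_zero, zero_add, pow_one]; exact hinv₁ e he⟩
    | succ n ih =>
      refine ⟨fun g => ?_, fun e he => ?_⟩
      · obtain ⟨g₁, hg₁⟩ := hn₁ g
        obtain ⟨g₂, hg₂⟩ := ih.1 g₁
        exact ⟨g₂, fun x hx => by rw [pow_succ, app_mul_aut, app_mul_aut, hg₁ x hx, hg₂ _ (app_mem a₁ hx)]⟩
      · rw [show 2 * (n + 1) + 1 = (2 * n + 1) + 1 + 1 by omega, pow_succ, pow_succ, app_mul_aut, app_mul_aut,
          ih.2 _ (app_mem _ (app_mem _ he)), hinv₁ _ (app_mem _ he), hinv₁ e he, inv_inv]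
  obtain ⟨k, m, hm, hkm⟩ := Nat.exists_eq_pow_mul_and_not_dvd (orderOf_pos a₁).ne' p hp.out.ne_one
  set a₂ := a₁ ^ p ^ k with ha₂
  have ha₂m : a₂ ∈ kgen D.f E := pow_mem ha₁ _
  have ha₂o : ¬ p ∣ orderOf a₂ := fun hdvd => hm (hdvd.trans (orderOf_dvd_of_pow_eq_one
    (by rw [ha₂, ← pow_mul, ← hkm, pow_orderOf_eq_one])))
  have hinv₂ : ∀ e ∈ E, π (app a₂ e) = (π e)⁻¹ := by
    obtain ⟨n, hn⟩ := (hp.out.odd_of_ne_two hp2).pow (n := k)
    rw [ha₂, hn]
    exact (hit n).2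
  obtain ⟨χ, hχ, hχE⟩ := D.f.extend E hE a₂ (kgen_le D.f hE ha₂m) (hit (p ^ k)).1
  have hχQ : ∀ v ∈ Q, χ v = v := fun v hv => by
    rw [hχE v (hQE hv)]
    exact fix_of_central hG hQE (hQ.inv E hE) (all_cV D hG hsec hQ hc) ha₂m ha₂o hE v hv
  set i := y⁻¹ * χ y with hi
  have hiE' : i ∈ E' := mul_mem (inv_mem hy) (D.fixed χ hχ E' hE' y hy)
  have hiE : i ∈ E := mem_of_trivial D hG hsec hQ hE fun e he => by
    have hk : ⁅y, e⁻¹⁆ ∈ E ⊓ E' :=
      ⟨comm_mem_left y (inv_mem he), comm_mem_member D hG hsec hQ hc hE' _ _⟩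
    have h1 : π (χ ⁅y, e⁻¹⁆) = (π ⁅y, e⁻¹⁆)⁻¹ := by rw [hχE _ hk.1, hinv₂ _ hk.1]
    rw [map_commutatorElement χ, map_commutatorElement π, map_commutatorElement π, hχE _ (inv_mem he),
      hinv₂ _ (inv_mem he), ← map_inv, inv_inv] at h1
    have hcen : Commute (π e) ⁅π y, (π e)⁻¹⁆ := by
      rw [← commutatorElement_eq_one_iff_commute, ← map_inv, ← map_commutatorElement, ← map_commutatorElement]
      exact (QuotientGroup.eq_one_iff _).2 (hgI _ hk e)
    have h2 : ⁅π y, π e⁆ = ⁅π y, (π e)⁻¹⁆⁻¹ := by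
      rw [show ⁅π y, π e⁆ = π e * ⁅π y, (π e)⁻¹⁆⁻¹ * (π e)⁻¹ by simp only [commutatorElement_def]; group,
        hcen.inv_right.eq, mul_inv_cancel_right]
    rw [map_inv π e, ← h2, commutatorElement_def, commutatorElement_def] at h1
    refine QuotientGroup.eq.1 (show π e = π (i * e * i⁻¹) from ?_)
    have h3 : π (χ y) * π e * (π (χ y))⁻¹ = π y * π e * (π y)⁻¹ := mul_right_cancel h1
    rw [hi]
    simp only [map_mul, map_inv]
    calc π e = (π y)⁻¹ * (π y * π e * (π y)⁻¹) * π y := by group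
      _ = _ := by rw [← h3]; group
  set q := z * χ z with hq
  have hqQ : q ∈ Q := (QuotientGroup.eq_one_iff q).1 (show π q = 1 by
    rw [hq, map_mul, hχE z hz.1, hinv₂ z hz.1, mul_inv_cancel])
  have hχz : χ z = z⁻¹ * q := by rw [hq, inv_mul_cancel_left]
  have hiz : Commute i z := by
    by_cases hzQ : z ∈ Q
    · exact hcenQ z hzQ i
    have hI : Q ⊔ Subgroup.zpowers z = E ⊓ E' := Subgroup.eq_of_le_of_card_ge
      (sup_le (le_inf hQE (hQ.le E' hE')) (Subgroup.zpowers_le.2 hz))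
      ((card_meet D hG hsec hQ hc hE hE' hne).trans
        (step hG le_sup_left (Subgroup.mem_sup_right (Subgroup.mem_zpowers z)) hzQ))
    obtain ⟨u, hu, w, hw, huw⟩ := Subgroup.mem_sup_of_normal_left.1 (hI.ge ⟨hiE, hiE'⟩)
    obtain ⟨n, rfl⟩ := Subgroup.mem_zpowers_iff.1 hw
    rw [← huw]
    exact Commute.mul_left (hcenQ u hu z).symm ((Commute.refl z).zpow_left n)
  set c := ⁅y, z⁆
  have hcQ : c ∈ Q := hgI z hz y
  have h1 : χ c = ⁅y, z⁻¹⁆ := by
    rw [map_commutatorElement, show χ y = y * i by rw [hi, mul_inv_cancel_left], hχz,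
      show ⁅y * i, z⁻¹ * q⁆ = y * ⁅i, z⁻¹ * q⁆ * y⁻¹ * ⁅y, z⁻¹ * q⁆ by simp only [commutatorElement_def]; group,
      commutatorElement_eq_one_iff_commute.2 (hiz.inv_right.mul_right (hcenQ q hqQ i)), mul_one, mul_inv_cancel,
      one_mul, show ⁅y, z⁻¹ * q⁆ = ⁅y, z⁻¹⁆ * (z⁻¹ * ⁅y, q⁆ * z) by simp only [commutatorElement_def]; group,
      commutatorElement_eq_one_iff_commute.2 (hcenQ q hqQ y), mul_one, inv_mul_cancel, mul_one]
  rw [hχQ c hcQ, show ⁅y, z⁻¹⁆ = z⁻¹ * c⁻¹ * z by simp only [c, commutatorElement_def]; group,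
    (hcenQ _ (inv_mem hcQ) z⁻¹).eq, inv_mul_cancel_right] at h1
  exact commutatorElement_eq_one_iff_commute.1 (eq_one_of_self_inv hG hp2 h1)

/-- All commutators are central. -/
theorem small_central (a b g : G) : Commute ⁅a, b⁆ g := by
  obtain ⟨A, hA⟩ := D.exists_mem
  obtain ⟨B, hB, hne, -⟩ := D.two A hA
  haveI := D.f.normal A hA
  haveI := D.f.normal B hB
  set z := ⁅a, b⁆
  have hzA : z ∈ A := comm_mem_member D hG hsec hQ hc hA a b
  have hzB : z ∈ B := comm_mem_member D hG hsec hQ hc hB a b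
  obtain ⟨r, hr, hrI⟩ := inf_lt (D.f.index A hA) (D.f.index B hB) hne.symm
  have hAz : ∀ y ∈ A, y ∈ Subgroup.centralizer {z} := fun y hy => Subgroup.mem_centralizer_singleton_iff.2
    (meet_central D hG hsec hQ hc hp2 hB hA hne hy ⟨hzB, hzA⟩).eq
  have hBz : B ≤ Subgroup.centralizer {z} := fun y hy => Subgroup.mem_centralizer_singleton_iff.2
    (meet_central D hG hsec hQ hc hp2 hA hB hne.symm hy ⟨hzA, hzB⟩).eq
  exact (Subgroup.mem_centralizer_singleton_iff.1 ((eq_top_of_index (D.f.index B hB) hBz (hAz r hr)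
    fun h => hrI ⟨hr, h⟩).ge (Subgroup.mem_top g))).symm

end Cfsg.Agent.RankThreeChar
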