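import Cfsg.Agent.Lib.RankThreeChar.Gen
import Cfsg.Agent.Lib.RankThreeCore.Auto

/-!
Two members fixed by all automorphisms of the whole group, and the subgroups invariant for both.
-/

set_option autoImplicit false
set_option linter.unusedSectionVars false
set_option linter.style.haveILetI false
set_option maxHeartbeats 1000000

open scoped commutatorElement
open Cfsg.Agent.RankThreeEss Cfsg.Agent.RankThreeNormal

namespace Cfsg.Agent.RankThreeChar

variable {G : Type*} [Group G] {p : ℕ}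

/-- A frame with exactly two members, each fixed by the automorphisms of the group, whose `p`-elements are inner. -/
structure Duo (p : ℕ) (G : Type*) [Group G] where
  f : Pre p G
  two : ∀ E ∈ f.ess, ∃ E' ∈ f.ess, E' ≠ E ∧ ∀ X ∈ f.ess, X = E ∨ X = E'
  exists_mem : ∃ E, E ∈ f.ess
  fixed : ∀ φ ∈ f.autTop, ∀ E ∈ f.ess, ∀ x ∈ E, φ x ∈ E
  inner : ∀ κ ∈ f.autTop, ∀ k : ℕ, κ ^ p ^ k = 1 → ∃ g : G, ∀ x, κ x = g * x * g⁻¹

/-- A common invariant subgroup. -/
structure Com (f : Pre p G) (Q : Subgroup G) : Prop where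
  normal : Q.Normal
  le : ∀ E ∈ f.ess, Q ≤ E
  inv : ∀ E ∈ f.ess, Inv (f.aut E) Q
  top : ∀ φ ∈ f.autTop, ∀ x ∈ Q, φ x ∈ Q

/-- The elements acting trivially on the Frattini quotient of `Q`. -/
def cV (Q : Subgroup G) [Q.Normal] : Subgroup G :=
  (Subgroup.centralizer ((Q.map (QuotientGroup.mk' (phi Q))) : Set (G ⧸ phi Q))).comap (QuotientGroup.mk' (phi Q))

theorem mem_cV {Q : Subgroup G} [Q.Normal] {g : G} : g ∈ cV Q ↔ ∀ v ∈ Q, ⁅g, v⁆ ∈ phi Q := by
  simp only [cV, Subgroup.mem_comap, Subgroup.mem_centralizer_iff, SetLike.mem_coe, Subgroup.mem_map,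
    QuotientGroup.mk'_apply, forall_exists_index, and_imp, forall_apply_eq_imp_iff₂]
  refine forall₂_congr fun v _ => ?_
  rw [eq_comm, ← QuotientGroup.eq_one_iff]
  show _ ↔ (QuotientGroup.mk' (phi Q)) ⁅g, v⁆ = 1
  rw [map_commutatorElement, commutatorElement_eq_one_iff_mul_comm]
  rfl

instance cV_normal (Q : Subgroup G) [Q.Normal] : (cV Q).Normal := by
  unfold cV
  haveI : (Q.map (QuotientGroup.mk' (phi Q))).Normal :=
    Subgroup.Normal.map inferInstance _ (QuotientGroup.mk'_surjective _)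
  infer_instance

variable [hp : Fact p.Prime] [Finite G]

theorem le_cV (hG : IsPGroup p G) (Q : Subgroup G) [Q.Normal] : Q ≤ cV Q := fun _ hg =>
  mem_cV.2 fun _ hv => comm_mem_phi hG hg hv

variable {f : Pre p G} {E : Subgroup G}

/-- The Frattini quotient of a subgroup has order at most `p ^ 3`. -/
theorem card_le_phi (hG : IsPGroup p G) (hsec : Cfsg.SectionalPRankLE p 3 G) (Q : Subgroup G) :
    Nat.card Q ≤ p ^ 3 * Nat.card (phi Q) := by
  have hP : IsPGroup p Q := hG.to_subgroup Q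
  letI : CommGroup (Q ⧸ frattini Q) := RankThreeCore.quotCommGroup hP
  have h := hsec Q (frattini Q) ⊤ ⟨⟨fun a b => Subtype.ext (mul_comm (a : Q ⧸ frattini Q) b)⟩⟩
    fun a _ => RankThreeCore.quot_exp hP a
  rw [Subgroup.card_top, ← Subgroup.index_eq_card] at h
  rw [phi, Subgroup.card_map_of_injective Q.subtype_injective, ← (frattini Q).card_mul_index, mul_comm]
  exact Nat.mul_le_mul_right _ h

/-- An automorphism of order prime to `p` trivial on three steps of order `p` of the Frattini quotient of `Q` fixes `Q`. -/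
theorem fix_steps (hG : IsPGroup p G) [E.Normal] {Q X Y : Subgroup G} [Q.Normal] (hQE : Q ≤ E) (h1 : phi Q ≤ X)
    (h2 : X ≤ Y) (h3 : Y ≤ Q) (hQi : Inv (kgen f E) Q) (hXi : Inv (kgen f E) X) (hYi : Inv (kgen f E) Y)
    (c1 : Nat.card X ≤ p * Nat.card (phi Q)) (c2 : Nat.card Y ≤ p * Nat.card X) (c3 : Nat.card Q ≤ p * Nat.card Y)
    {d : MulAut E} (hd : d ∈ kgen f E) (hc : ¬ p ∣ orderOf d) : ∀ x ∈ Q, app d x = x := by
  have hΦ : Inv (kgen f E) (phi Q) := fun a ha => phi_inv hQE (hQi a ha)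
  have e1 := kgen_small f hG ((h2.trans h3).trans hQE) h1 hXi hΦ c1 hd
  have hXQ : X ≤ Q := h2.trans h3
  have f2 : ∀ y ∈ Y, y⁻¹ * app d y ∈ phi Q := fun y hy => by
    refine fix_mod hG hc ((phi_le Q).trans hQE) (hΦ d hd) (hQE (h3 hy)) (e1 _ ?_)
    exact kgen_small f hG (h3.trans hQE) h2 hYi hXi c2 hd y hy
  refine fix_of_phi hG hc hQE (hQi d hd) fun x hx => ?_
  refine fix_mod hG hc ((phi_le Q).trans hQE) (hΦ d hd) (hQE hx) (f2 _ ?_)
  exact kgen_small f hG hQE h3 hQi hYi c3 hd x hx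

/-- An element commuting with the action on the Frattini quotient of `Q` and acting nontrivially gives steps. -/
theorem fix_of_commuting (hG : IsPGroup p G) (hsec : Cfsg.SectionalPRankLE p 3 G) [E.Normal] {Q : Subgroup G}
    [Q.Normal] (hQE : Q ≤ E) (hQi : Inv (kgen f E) Q) {e : G} (he : e ∈ E) (hne : e ∉ cV Q)
    (hcomm : ∀ a ∈ kgen f E, e⁻¹ * app a e ∈ cV Q) {d : MulAut E} (hd : d ∈ kgen f E) (hc : ¬ p ∣ orderOf d) :
    ∀ x ∈ Q, app d x = x := by
  set Φ := phi Q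
  set q := QuotientGroup.mk' Φ with hq
  have hΦle : Φ ≤ Q := phi_le Q
  have hη : ∀ v ∈ Q, ⁅e, v⁆ ∈ Q := fun v hv => by
    rw [commutatorElement_def]
    exact mul_mem (Subgroup.Normal.conj_mem inferInstance v hv e) (inv_mem hv)
  have hQc : ∀ a ∈ Q, ∀ b ∈ Q, Commute (q a) (q b) := fun a ha b hb => by
    rw [← commutatorElement_eq_one_iff_commute, ← map_commutatorElement]
    exact (QuotientGroup.eq_one_iff _).2 (comm_mem_phi hG ha hb)
  have hmul : ∀ v ∈ Q, ∀ w ∈ Q, q ⁅e, v * w⁆ = q ⁅e, v⁆ * q ⁅e, w⁆ := fun v hv w hw => by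
    rw [show ⁅e, v * w⁆ = ⁅e, v⁆ * (v * ⁅e, w⁆ * v⁻¹) by simp only [commutatorElement_def]; group, map_mul]
    congr 1
    rw [map_mul, map_mul, map_inv, (hQc v hv _ (hη w hw)).eq, mul_inv_cancel_right]
  let η : Q →* G ⧸ Φ :=
    { toFun := fun v => q ⁅e, (v : G)⁆
      map_one' := by rw [OneMemClass.coe_one, commutatorElement_one_right, map_one]
      map_mul' := fun v w => hmul v v.2 w w.2 }
  set X₁ := η.range.comap q with hX₁
  set K₁ := η.ker.map Q.subtype with hK₁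
  have hmemK : ∀ {x : G}, x ∈ K₁ ↔ x ∈ Q ∧ ⁅e, x⁆ ∈ Φ := fun {x} =>
    ⟨by rintro ⟨v, hv, rfl⟩; exact ⟨v.2, (QuotientGroup.eq_one_iff _).1 hv⟩,
      fun h => ⟨⟨x, h.1⟩, (QuotientGroup.eq_one_iff _).2 h.2, rfl⟩⟩
  have hmemX : ∀ {x : G}, x ∈ X₁ ↔ ∃ v ∈ Q, ⁅e, v⁆⁻¹ * x ∈ Φ := fun {x} =>
    ⟨fun ⟨v, hv⟩ => ⟨v, v.2, QuotientGroup.eq.1 hv⟩, fun ⟨v, hv, h⟩ => ⟨⟨v, hv⟩, QuotientGroup.eq.2 h⟩⟩
  have hΦX : Φ ≤ X₁ := fun x hx => hmemX.2 ⟨1, one_mem _, by
    rw [commutatorElement_one_right, inv_one, one_mul]; exact hx⟩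
  have hXQ : X₁ ≤ Q := fun x hx => by
    obtain ⟨v, hv, h⟩ := hmemX.1 hx
    have := mul_mem (hη v hv) (hΦle h)
    rwa [mul_inv_cancel_left] at this
  have hΦK : Φ ≤ K₁ := fun x hx => hmemK.2 ⟨hΦle hx, by
    rw [commutatorElement_def]
    exact mul_mem (Subgroup.Normal.conj_mem inferInstance x hx e) (inv_mem hx)⟩
  have hKQ : K₁ ≤ Q := fun x hx => (hmemK.1 hx).1
  have hΦi : Inv (kgen f E) Φ := fun a ha => phi_inv hQE (hQi a ha)
  have hequi : ∀ a ∈ kgen f E, ∀ v ∈ Q, ⁅e, app a v⁆⁻¹ * app a ⁅e, v⁆ ∈ Φ := fun a ha v hv => by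
    refine QuotientGroup.eq.1 (show q _ = q _ from ?_)
    rw [app_commutator a he (hQE hv), show app a e = e * (e⁻¹ * app a e) by group,
      show ⁅e * (e⁻¹ * app a e), app a v⁆ = e * ⁅e⁻¹ * app a e, app a v⁆ * e⁻¹ * ⁅e, app a v⁆ by
        simp only [commutatorElement_def]; group, map_mul _ _ ⁅e, app a v⁆,
      show q (e * ⁅e⁻¹ * app a e, app a v⁆ * e⁻¹) = 1 from (QuotientGroup.eq_one_iff _).2
        (Subgroup.Normal.conj_mem inferInstance _ (mem_cV.1 (hcomm a ha) _ (hQi a ha v hv)) e), one_mul]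
  have hXi : Inv (kgen f E) X₁ := fun a ha x hx => by
    obtain ⟨v, hv, h⟩ := hmemX.1 hx
    refine hmemX.2 ⟨app a v, hQi a ha v hv, ?_⟩
    have := mul_mem (hequi a ha v hv) (hΦi a ha _ h)
    rwa [mul_assoc, ← app_mul a (hQE (hη v hv)) (hQE (hΦle h)), mul_inv_cancel_left] at this
  have hKi : Inv (kgen f E) K₁ := fun a ha x hx => by
    obtain ⟨hxQ, h⟩ := hmemK.1 hx
    refine hmemK.2 ⟨hQi a ha x hxQ, ?_⟩
    have h1 := hequi a ha x hxQ
    have h2 := mul_mem h1 (inv_mem (hΦi a ha _ h))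
    rw [mul_inv_cancel_right] at h2
    rw [← inv_inv ⁅e, app a x⁆]
    exact inv_mem h2
  haveI := normal_of_kinv f (hKQ.trans hQE) hKi
  haveI := normal_of_kinv f (hXQ.trans hQE) hXi
  -- the orders
  have hcr : Nat.card K₁ * Nat.card η.range = Nat.card Q := by
    rw [hK₁, Subgroup.card_map_of_injective Q.subtype_injective, ← Subgroup.index_ker η, η.ker.card_mul_index]
  have hcX : Nat.card X₁ = Nat.card η.range * Nat.card Φ := by
    have h1 := (η.range.comap q).card_mul_index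
    rw [Subgroup.index_comap_of_surjective _ (QuotientGroup.mk'_surjective Φ), ← Φ.card_mul_index,
      Subgroup.index_eq_card Φ, ← η.range.card_mul_index, ← mul_assoc, mul_comm (Nat.card Φ)] at h1
    exact Nat.eq_of_mul_eq_mul_right (Nat.pos_of_ne_zero Subgroup.index_ne_zero_of_finite) h1
  obtain ⟨r, hr⟩ := IsPGroup.iff_card.1 ((hG.to_quotient Φ).to_subgroup η.range)
  rw [hr] at hcr hcX
  have hpos : 0 < Nat.card Φ := Nat.card_pos
  have hQ3 := card_le_phi hG hsec Q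
  -- a fixed point in the image
  have hfix : ∀ {x : G}, x ∈ X₁ → x ∉ Φ → ∃ z ∈ X₁, z ∉ Φ ∧ z ∈ K₁ := fun {x} hx hxΦ => by
    by_contra hno
    push Not at hno
    obtain ⟨n, hn⟩ := hG e
    have key : ∀ i : ℕ, ∀ y ∈ X₁, y ∉ Φ → (fun y => ⁅e, y⁆)^[i] y ∈ X₁ ∧ (fun y => ⁅e, y⁆)^[i] y ∉ Φ := by
      intro i
      induction i with
      | zero => exact fun y hy hy' => ⟨hy, hy'⟩
      | succ i ih =>
        intro y hy hy'
        rw [Function.iterate_succ_apply]
        refine ih _ (hmemX.2 ⟨y, hXQ hy, by rw [inv_mul_cancel]; exact one_mem _⟩)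
          fun h => hno y hy hy' (hmemK.2 ⟨hXQ hy, h⟩)
    haveI := hG.isNilpotent
    have hlow : ∀ (i : ℕ) (y : G), (fun y => ⁅e, y⁆)^[i] y ∈ (⊤ : Subgroup G).lowerCentralSeries i := by
      intro i
      induction i with
      | zero => exact fun y => Subgroup.mem_top y
      | succ i ih =>
        intro y
        rw [Function.iterate_succ_apply', Subgroup.lowerCentralSeries_succ]
        rw [← Subgroup.commutator_comm]
        exact Subgroup.commutator_mem_commutator (Subgroup.mem_top e) (ih y)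
    obtain ⟨m, hm⟩ : ∃ m, (⊤ : Subgroup G).lowerCentralSeries m = ⊥ :=
      ⟨_, Subgroup.lowerCentralSeries_eq_bot_iff_nilpotencyClass_le.2 le_rfl⟩
    have h := (key m x hx hxΦ).2
    have h1 : (fun y => ⁅e, y⁆)^[m] x = 1 := Subgroup.mem_bot.1 (hm ▸ hlow m x)
    rw [h1] at h
    exact h (one_mem _)
  have hr1 : 1 ≤ r := by
    by_contra hr0
    obtain rfl : r = 0 := by omega
    refine hne (mem_cV.2 fun v hv => ?_)
    rw [pow_zero, one_mul] at hcX
    exact (Subgroup.eq_of_le_of_card_ge hΦX hcX.le).ge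
      (hmemX.2 ⟨v, hv, by rw [inv_mul_cancel]; exact one_mem _⟩)
  obtain ⟨x, hx, hxΦ⟩ := exists_not_mem (N := Φ) (B := X₁) (by
    rw [hcX]; exact lt_mul_of_one_lt_left hpos (Nat.one_lt_pow (by omega) hp.out.one_lt))
  obtain ⟨z, hzX, hzΦ, hzK⟩ := hfix hx hxΦ
  have hKΦ : p * Nat.card Φ ≤ Nat.card K₁ := step hG hΦK hzK hzΦ
  have hr2 : r ≤ 2 := by
    have h1 : p ^ (r + 1) * Nat.card Φ ≤ p ^ 3 * Nat.card Φ := by
      refine le_trans ?_ (hQ3.trans' hcr.le)
      rw [pow_succ, mul_comm (Nat.card K₁), mul_assoc]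
      exact Nat.mul_le_mul_left _ hKΦ
    have := (Nat.pow_le_pow_iff_right hp.out.one_lt).1 (Nat.le_of_mul_le_mul_right h1 hpos)
    omega
  rcases (by omega : r = 1 ∨ r = 2) with rfl | rfl
  · rw [pow_one] at hcX hcr
    have hXK : X₁ ≤ K₁ := by
      rw [← eq_sup hG hΦX hcX hzX hzΦ]
      exact sup_le hΦK (Subgroup.zpowers_le.2 hzK)
    refine fix_steps hG hQE hΦX hXK hKQ hQi hXi hKi hcX.le ?_ (by rw [mul_comm, hcr]) hd hc
    refine Nat.le_of_mul_le_mul_left ?_ hp.out.pos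
    rw [hcX, mul_comm p (Nat.card K₁), hcr]
    calc Nat.card Q ≤ p ^ 3 * Nat.card Φ := hQ3
      _ = p * (p * (p * Nat.card Φ)) := by ring
  · have hK1 : Nat.card K₁ = p * Nat.card Φ := by
      refine le_antisymm (Nat.le_of_mul_le_mul_right ?_ (pow_pos hp.out.pos 2)) hKΦ
      rw [hcr]
      calc Nat.card Q ≤ p ^ 3 * Nat.card Φ := hQ3
        _ = p * Nat.card Φ * p ^ 2 := by ring
    have hKX : K₁ ≤ X₁ := by
      rw [← eq_sup hG hΦK hK1 hzK hzΦ]
      exact sup_le hΦX (Subgroup.zpowers_le.2 hzX)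
    refine fix_steps hG hQE hΦK hKX hXQ hQi hKi hXi hK1.le ?_ ?_ hd hc
    · rw [hcX, hK1]; exact le_of_eq (by ring)
    · rw [← hcr, hK1, hcX]; exact le_of_eq (by ring)

end Cfsg.Agent.RankThreeChar
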