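import Cfsg.Agent.Lib.RankThreeChar.Main
import Cfsg.Agent.Lib.RankThreeNormal.Fusion

/-!
The two members of a fusion system: essential subgroups invariant under the automorphisms of the Sylow subgroup.
-/

set_option autoImplicit false
set_option linter.unusedSectionVars false
set_option linter.style.haveILetI false
set_option maxHeartbeats 2000000

open scoped commutatorElement
open Cfsg Cfsg.FusionSystem Cfsg.Agent.FusionSys Cfsg.Agent.MaxEss Cfsg.Agent.RankThreeEss Cfsg.Agent.RankThreeNormal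

namespace Cfsg.Agent.RankThreeChar

variable {Ω : Type*} [Group Ω] {S : Subgroup Ω} [Finite S] {F : FusionSystem S} {p : ℕ} [hp : Fact p.Prime]

omit hp [Finite S] in
theorem conj_mem_autGroup (g : S) : MulAut.conj g ∈ F.autGroup S :=
  (mem_autGroup_iff F le_rfl _).2 (hom_congr F (F.conj_mem le_rfl g.2) fun _ => rfl)

omit hp [Finite S] in
theorem map_eq_of_char {L : Subgroup S} (h : ∀ φ : MulAut S, φ ∈ F.autGroup S → L.map φ.toMonoidHom = L) :
    L.Normal :=
  ⟨fun x hx g => (h _ (conj_mem_autGroup g)).le ⟨x, hx, rfl⟩⟩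

omit hp in
/-- An automorphism of the group fixing a member acts on its automorphisms. -/
theorem move_mem {φ : MulAut S} (hφ : φ ∈ F.autGroup S) {E₀ : Subgroup S} (hE : E₀.map φ.toMonoidHom = E₀)
    {a : MulAut E₀} (ha : a ∈ autL F E₀) : ∃ b ∈ autL F E₀, ∀ x ∈ E₀, app b (φ x) = φ (app a x) := by
  set f : E₀ →* S := φ.toMonoidHom.comp E₀.subtype with hfd
  have hf : HomG F f := by
    refine hom_congr F (restrict_mem F ((mem_autGroup_iff F le_rfl φ).1 hφ) (om_le E₀)) fun y => ?_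
    obtain ⟨x, rfl⟩ := (eL E₀).surjective y
    rw [push_apply]
    rfl
  have hfr : f.range = E₀ := by rw [hfd, MonoidHom.range_comp, Subgroup.range_subtype, hE]
  obtain ⟨e, he, hesymm⟩ := hf.exists_inv hfr
  have hefwd : HomG F (E₀.subtype.comp e.toMonoidHom) := homG_congr hf fun x => he x
  refine ⟨MulAut.congr e a, congr_mem_autL e hefwd hesymm ha, fun x hx => ?_⟩
  lift x to E₀ using hx
  rw [show φ (x : S) = ((e x : E₀) : S) from (he x).symm, app_coe, app_coe]
  show ((e (a (e.symm (e x))) : E₀) : S) = _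
  rw [e.symm_apply_apply, he]
  rfl

variable (hS : IsPGroup p S) (hF : F.IsSaturated p)
include hS hF

theorem autS_inner {κ : MulAut S} (hκ : κ ∈ F.autGroup S) (k : ℕ) (hk : κ ^ p ^ k = 1) :
    ∃ g : S, ∀ x, κ x = g * x * g⁻¹ := by
  have hfn : F.IsFullyNormalized S := by
    refine ⟨le_rfl, fun Q _ => ?_⟩
    haveI : Finite (normalizerIn S S) := finite_of_le inf_le_left
    exact Subgroup.card_le_of_le (inf_le_left.trans (le_inf le_rfl Subgroup.le_normalizer))
  obtain ⟨R, hR⟩ := (fullyNormalized_imp hS hF hfn).2.2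
  haveI hRn : (R : Subgroup (F.autGroup S)).Normal := ⟨fun b hb a => by
    rw [hR] at hb ⊢
    obtain ⟨g, hg, hge⟩ := (mem_autInducedBy_iff _).1 (Subgroup.mem_subgroupOf.1 hb)
    refine Subgroup.mem_subgroupOf.2 ((mem_autInducedBy_iff _).2
      ⟨(((a : MulAut S) ⟨g, hg⟩ : S) : Ω), ((a : MulAut S) ⟨g, hg⟩).2, fun x => ?_⟩)
    obtain ⟨x, rfl⟩ := (a : MulAut S).surjective x
    have hb' : (b : MulAut S) x = ⟨g, hg⟩ * x * (⟨g, hg⟩ : S)⁻¹ := Subtype.ext (hge x)
    show (((a : MulAut S) ((b : MulAut S) ((a : MulAut S)⁻¹ ((a : MulAut S) x))) : S) : Ω) = _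
    rw [show (a : MulAut S)⁻¹ ((a : MulAut S) x) = x from (a : MulAut S).symm_apply_apply x, hb', map_mul, map_mul,
      map_inv]
    rfl⟩
  set κ' : F.autGroup S := ⟨κ, hκ⟩ with hκ'
  have hkp : IsPGroup p (Subgroup.zpowers κ') := fun x => ⟨k, by
    obtain ⟨x, hx⟩ := x
    obtain ⟨n, rfl⟩ := Subgroup.mem_zpowers_iff.1 hx
    refine Subtype.ext (Subtype.ext ?_)
    show ((κ ^ n) ^ p ^ k) = 1
    rw [← zpow_natCast, zpow_comm, zpow_natCast, hk, one_zpow]⟩
  have hmax := R.is_maximal' (hkp.to_sup_of_normal_right R.isPGroup') le_sup_right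
  have hκR : κ' ∈ (R : Subgroup (F.autGroup S)) := hmax ▸ Subgroup.mem_sup_left (Subgroup.mem_zpowers κ')
  rw [hR] at hκR
  obtain ⟨g, hg, hge⟩ := (mem_autInducedBy_iff _).1 (Subgroup.mem_subgroupOf.1 hκR)
  exact ⟨⟨g, hg⟩, fun x => Subtype.ext (hge x)⟩

variable (hsec : Cfsg.SectionalPRankLE p 3 S) (h3 : 3 ≤ p) {L₁ L₂ : Subgroup S} (hne : L₁ ≠ L₂)
  (h₁ : F.IsEssential p (om L₁)) (h₂ : F.IsEssential p (om L₂))
  (hc₁ : ∀ φ : MulAut S, φ ∈ F.autGroup S → L₁.map φ.toMonoidHom = L₁)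
  (hc₂ : ∀ φ : MulAut S, φ ∈ F.autGroup S → L₂.map φ.toMonoidHom = L₂)

/-- The pair as abstract data. -/
noncomputable def fusionDuo : Duo p S where
  f :=
  { ess := {L₁, L₂}
    aut := fun E => autL F E
    autTop := F.autGroup S
    normal := by rintro E (rfl | rfl); exacts [map_eq_of_char hc₁, map_eq_of_char hc₂]
    index := by
      rintro E (rfl | rfl)
      exacts [index_eq hS hF hsec h3 h₁ (Subgroup.normalizer_eq_top_iff.2 (map_eq_of_char hc₁)),
        index_eq hS hF hsec h3 h₂ (Subgroup.normalizer_eq_top_iff.2 (map_eq_of_char hc₂))]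
    cent := fun E hE g hg => by
      have hEs : F.IsEssential p (om E) := by rcases hE with rfl | rfl; exacts [h₁, h₂]
      refine (Subgroup.mem_map_iff_mem S.subtype_injective).1 (centralizerIn_le_of_centric hEs.1 ⟨g.2, ?_⟩)
      refine Subgroup.mem_centralizer_iff.2 ?_
      rintro _ ⟨x, hx, rfl⟩
      exact (congrArg Subtype.val (hg x hx).eq).symm
    conj := fun E hE g a ha => by
      have hEn : E.Normal := by rcases hE with rfl | rfl; exacts [map_eq_of_char hc₁, map_eq_of_char hc₂]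
      have hg : g ∈ Subgroup.normalizer (E : Set S) :=
        (Subgroup.normalizer_eq_top_iff.2 hEn).ge (Subgroup.mem_top g)
      rw [show a = conjN E ⟨g, hg⟩ from aut_ext fun x hx => by
        rw [ha x hx]
        exact (app_coe (conjN E ⟨g, hg⟩) ⟨x, hx⟩).symm]
      exact conj_mem_autL _
    radical := by rintro E (rfl | rfl); exacts [radical_conj hS hF h₁, radical_conj hS hF h₂]
    sylow := by rintro E (rfl | rfl); exacts [sylow_conj hS hF h₁, sylow_conj hS hF h₂]
    extend := fun E hE a ha hnorm => by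
      have hEs : F.IsEssential p (om E) := by rcases hE with rfl | rfl; exacts [h₁, h₂]
      have hEn : E.Normal := by rcases hE with rfl | rfl; exacts [map_eq_of_char hc₁, map_eq_of_char hc₂]
      have hN : nrm E = ⊤ := Subgroup.normalizer_eq_top_iff.2 hEn
      obtain ⟨b, hb, hbe⟩ := exists_extend hS hF hEs.2.1 ha fun g _ => by
        obtain ⟨k, hk⟩ := hnorm g
        refine ⟨k, hN.ge (Subgroup.mem_top k), fun x hx => ?_⟩
        rw [← app_coe, ← app_coe]
        exact hk x x.2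
      obtain ⟨χ, hχ, hχe⟩ := RankThreeCore.exists_autS hN hb
      refine ⟨χ, hχ, fun x hx => ?_⟩
      lift x to E using hx
      rw [app_coe, hχe _ (Subgroup.le_normalizer x.2)]
      exact hbe x _
    move := fun φ hφ E hE a ha => move_mem hφ (by rcases hE with rfl | rfl; exacts [hc₁ φ hφ, hc₂ φ hφ]) ha }
  two := by
    rintro E (rfl | rfl)
    exacts [⟨L₂, Or.inr rfl, hne.symm, fun _ h => h⟩, ⟨L₁, Or.inl rfl, hne, fun _ h => Or.symm h⟩]
  exists_mem := ⟨L₁, Or.inl rfl⟩
  fixed φ hφ E hE x hx := by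
    rcases hE with rfl | rfl
    exacts [(hc₁ φ hφ).le ⟨x, hx, rfl⟩, (hc₂ φ hφ).le ⟨x, hx, rfl⟩]
  inner κ hκ k hk := autS_inner hS hF hκ k hk

omit hp hS hF in
/-- With central commutators every essential subgroup is normal. -/
theorem normal_of_class_two (h : ∀ a b g : S, Commute ⁅a, b⁆ g) {E : Subgroup Ω} (hE : F.IsEssential p E) :
    S ≤ Subgroup.normalizer (E : Set Ω) := by
  obtain ⟨L, rfl⟩ := exists_om hE.1.1
  intro g hg
  refine (mem_normalizer_om (g := ⟨g, hg⟩)).2 ?_
  have hn : L.Normal := ⟨fun x hx r => by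
    rw [show r * x * r⁻¹ = ⁅r, x⁆ * x by rw [commutatorElement_def]; group]
    refine mul_mem ((Subgroup.mem_map_iff_mem S.subtype_injective).1 (centralizerIn_le_of_centric hE.1 ⟨(⁅r, x⁆ : S).2, ?_⟩)) hx
    refine Subgroup.mem_centralizer_iff.2 ?_
    rintro _ ⟨w, -, rfl⟩
    exact congrArg Subtype.val (h r x w).eq.symm⟩
  rw [Subgroup.normalizer_eq_top_iff.2 hn]
  exact Subgroup.mem_top _

end Cfsg.Agent.RankThreeChar
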