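import Cfsg.Agent.Lib.RankThreeNormal.Far
import Cfsg.Agent.Lib.Fusion.MetacyclicOddAut

/-!
The subgroup of the automorphisms of a member generated by the conjugates of the inner automorphisms of
the whole group, and the elements of order prime to `p` in it.
-/

set_option autoImplicit false
set_option linter.unusedSectionVars false
set_option linter.style.haveILetI false
set_option maxHeartbeats 1000000

open scoped commutatorElement
open Cfsg.Agent.RankThreeEss Cfsg.Agent.RankThreeNormal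

namespace Cfsg.Agent.RankThreeChar

variable {G : Type*} [Group G] {p : ℕ}

/-- A normal family with automorphism groups, nothing being assumed on its common invariant subgroups. -/
structure Pre (p : ℕ) (G : Type*) [Group G] where
  ess : Set (Subgroup G)
  aut : (E : Subgroup G) → Subgroup (MulAut E)
  autTop : Subgroup (MulAut G)
  normal : ∀ E ∈ ess, E.Normal
  index : ∀ E ∈ ess, E.index = p
  cent : ∀ E ∈ ess, ∀ g, (∀ x ∈ E, Commute g x) → g ∈ E
  conj : ∀ E ∈ ess, ∀ g : G, ∀ a : MulAut E, (∀ x ∈ E, app a x = g * x * g⁻¹) → a ∈ aut E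
  radical : ∀ E ∈ ess, ∀ K : Subgroup (MulAut E), K ≤ aut E → (∀ a ∈ aut E, ∀ k ∈ K, a * k * a⁻¹ ∈ K) →
    IsPGroup p K → ∀ k ∈ K, ∃ q ∈ E, ∀ x ∈ E, app k x = q * x * q⁻¹
  sylow : ∀ E ∈ ess, ∀ K : Subgroup (MulAut E), K ≤ aut E → IsPGroup p K →
    (∀ g : G, ∀ a : MulAut E, (∀ x ∈ E, app a x = g * x * g⁻¹) → a ∈ K) →
    ∀ k ∈ K, ∃ g : G, ∀ x ∈ E, app k x = g * x * g⁻¹
  extend : ∀ E ∈ ess, ∀ a ∈ aut E,
    (∀ g : G, ∃ g' : G, ∀ x ∈ E, app a (g * x * g⁻¹) = g' * app a x * g'⁻¹) →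
    ∃ χ ∈ autTop, ∀ x ∈ E, χ x = app a x
  move : ∀ φ ∈ autTop, ∀ E ∈ ess, ∀ a ∈ aut E, ∃ b ∈ aut E, ∀ x ∈ E, app b (φ x) = φ (app a x)

namespace Pre

variable (f : Pre p G) {E : Subgroup G}

theorem conj_mem (hE : E ∈ f.ess) [E.Normal] (g : G) : (MulAut.conjNormal g : MulAut E) ∈ f.aut E :=
  f.conj E hE g _ fun _ hx => app_conjNormal g hx

theorem normal_of_inv (hE : E ∈ f.ess) {X : Subgroup G} (hXE : X ≤ E) (h : Inv (f.aut E) X) : X.Normal :=
  ⟨fun x hx g => by
    haveI := f.normal E hE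
    rw [← app_conjNormal g (hXE hx)]
    exact h _ (f.conj_mem hE g) x hx⟩

end Pre

/-- Generated by the conjugates of the automorphisms induced by elements of the group. -/
def kgen (f : Pre p G) (E : Subgroup G) [E.Normal] : Subgroup (MulAut E) :=
  Subgroup.closure {k | ∃ a ∈ f.aut E, ∃ g : G, k = a * MulAut.conjNormal g * a⁻¹}

variable (f : Pre p G) {E : Subgroup G} [E.Normal]

theorem gen_mem {a : MulAut E} (ha : a ∈ f.aut E) (g : G) : a * MulAut.conjNormal g * a⁻¹ ∈ kgen f E :=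
  Subgroup.subset_closure ⟨a, ha, g, rfl⟩

theorem conj_mem_kgen (g : G) : (MulAut.conjNormal g : MulAut E) ∈ kgen f E := by
  have h := gen_mem f (E := E) (one_mem _) g
  rwa [one_mul, inv_one, mul_one] at h

theorem kgen_le (hE : E ∈ f.ess) : kgen f E ≤ f.aut E := by
  refine (Subgroup.closure_le _).2 ?_
  rintro _ ⟨a, ha, g, rfl⟩
  exact mul_mem (mul_mem ha (f.conj_mem hE g)) (inv_mem ha)

theorem kgen_conj {a : MulAut E} (ha : a ∈ f.aut E) {k : MulAut E} (hk : k ∈ kgen f E) :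
    a * k * a⁻¹ ∈ kgen f E := by
  induction hk using Subgroup.closure_induction with
  | mem x hx =>
    obtain ⟨b, hb, g, rfl⟩ := hx
    have h := gen_mem f (mul_mem ha hb) g
    rwa [show a * b * MulAut.conjNormal g * (a * b)⁻¹ = a * (b * MulAut.conjNormal g * b⁻¹) * a⁻¹ by group] at h
  | one => rw [mul_one, mul_inv_cancel]; exact one_mem _
  | mul x y _ _ hx hy =>
    rw [show a * (x * y) * a⁻¹ = (a * x * a⁻¹) * (a * y * a⁻¹) by group]
    exact mul_mem hx hy
  | inv x _ hx =>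
    rw [show a * x⁻¹ * a⁻¹ = (a * x * a⁻¹)⁻¹ by group]
    exact inv_mem hx

/-- A subgroup of the member preserved by the whole of `kgen` is normal. -/
theorem normal_of_kinv {X : Subgroup G} (hXE : X ≤ E) (h : Inv (kgen f E) X) : X.Normal :=
  ⟨fun x hx g => by
    rw [← app_conjNormal g (hXE hx)]
    exact h _ (conj_mem_kgen f g) x hx⟩

theorem kinv_of_inv (hE : E ∈ f.ess) {X : Subgroup G} (h : Inv (f.aut E) X) : Inv (kgen f E) X :=
  fun a ha x hx => h a (kgen_le f hE ha) x hx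

/-- The elements of the group act trivially on a factor: so do their conjugates. -/
theorem kgen_factor {X Y : Subgroup G} (hX : X ≤ E) (hY : Y ≤ X) (hXi : Inv (f.aut E) X)
    (hYi : Inv (f.aut E) Y) (h : ∀ g : G, ∀ x ∈ X, x⁻¹ * (g * x * g⁻¹) ∈ Y) {d : MulAut E} (hd : d ∈ kgen f E) :
    ∀ x ∈ X, x⁻¹ * app d x ∈ Y := by
  suffices ∀ x ∈ X, x⁻¹ * app d x ∈ Y ∧ x⁻¹ * app d⁻¹ x ∈ Y from fun x hx => (this x hx).1
  induction hd using Subgroup.closure_induction with
  | mem k hk =>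
    obtain ⟨a, ha, g, rfl⟩ := hk
    have key : ∀ g : G, ∀ x ∈ X, x⁻¹ * app (a * MulAut.conjNormal g * a⁻¹) x ∈ Y := fun g x hx => by
      have hy : app a⁻¹ x ∈ X := hXi _ (inv_mem ha) x hx
      have h1 := hYi a ha _ (h g _ hy)
      rw [app_mul a (inv_mem (hX hy)) (Subgroup.Normal.conj_mem inferInstance _ (hX hy) g), app_inv a (hX hy),
        app_app_inv] at h1
      rwa [app_mul_aut, app_mul_aut, app_conjNormal g (hX hy)]
    intro x hx
    refine ⟨key g x hx, ?_⟩
    rw [show (a * MulAut.conjNormal g * a⁻¹)⁻¹ = a * MulAut.conjNormal g⁻¹ * a⁻¹ by rw [map_inv]; group]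
    exact key g⁻¹ x hx
  | one =>
    intro x hx
    rw [inv_one, app_one_aut, inv_mul_cancel]
    exact ⟨one_mem _, one_mem _⟩
  | mul a b _ _ ha hb =>
    have step : ∀ a b : MulAut E, (∀ x ∈ X, x⁻¹ * app a x ∈ Y) → (∀ x ∈ X, x⁻¹ * app b x ∈ Y) →
        ∀ x ∈ X, x⁻¹ * app (a * b) x ∈ Y := fun a b ha hb x hx => by
      have h1 : app b x ∈ X := by
        have := mul_mem hx (hY (hb x hx))
        rwa [mul_inv_cancel_left] at this
      rw [app_mul_aut, show x⁻¹ * app a (app b x) = (x⁻¹ * app b x) * ((app b x)⁻¹ * app a (app b x)) by group]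
      exact mul_mem (hb x hx) (ha _ h1)
    intro x hx
    refine ⟨step a b (fun y hy => (ha y hy).1) (fun y hy => (hb y hy).1) x hx, ?_⟩
    rw [mul_inv_rev]
    exact step b⁻¹ a⁻¹ (fun y hy => (hb y hy).2) (fun y hy => (ha y hy).2) x hx
  | inv a _ ha => intro x hx; rw [inv_inv]; exact ⟨(ha x hx).2, (ha x hx).1⟩

variable [hp : Fact p.Prime] [Finite G]

/-- An automorphism of `p`-power order acts trivially on a factor of order `p`. -/
theorem trivial_of_pElem (hG : IsPGroup p G) {c : MulAut E} {n : ℕ} (hc : c ^ p ^ n = 1) {X Y : Subgroup G}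
    [Y.Normal] (hX : X ≤ E) (hY : Y ≤ X) (hcard : Nat.card X ≤ p * Nat.card Y)
    (hXi : ∀ x ∈ X, app c x ∈ X) (hYi : ∀ x ∈ Y, app c x ∈ Y) : ∀ x ∈ X, x⁻¹ * app c x ∈ Y := by
  intro x hx
  by_cases hxY : x ∈ Y
  · exact mul_mem (inv_mem hxY) (hYi x hxY)
  have hcd : Nat.card X = p * Nat.card Y := le_antisymm hcard (step hG hY hx hxY)
  have hsup := eq_sup hG hY hcd hx hxY
  have hxp : x ^ p ∈ Y := by
    by_contra hne
    have := eq_sup hG hY hcd (pow_mem hx p) hne
    obtain ⟨y, hy, w, hw, hyw⟩ := Subgroup.mem_sup_of_normal_left.1 (this.ge hx)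
    obtain ⟨k, rfl⟩ := Subgroup.mem_zpowers_iff.1 hw
    obtain ⟨j, hj⟩ := hG x
    set q := QuotientGroup.mk' Y with hq
    have h1 : q x = (q x) ^ ((p : ℤ) * k) := by
      rw [← map_zpow, zpow_mul, zpow_natCast]
      conv_lhs => rw [← hyw, map_mul, show q y = 1 from (QuotientGroup.eq_one_iff y).2 hy, one_mul]
    have h2 : ∀ i : ℕ, q x = (q x) ^ (((p : ℤ) * k) ^ i) := fun i => by
      induction i with
      | zero => rw [pow_zero, zpow_one]
      | succ i ih => conv_lhs => rw [ih, h1, ← zpow_mul, ← pow_succ']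
    have h3 := h2 j
    rw [mul_pow, zpow_mul, ← Nat.cast_pow, zpow_natCast, ← map_pow q x (p ^ j), hj, map_one, one_zpow] at h3
    exact hxY ((QuotientGroup.eq_one_iff x).1 h3)
  obtain ⟨k, hk⟩ := RankThreeEss.exists_ev_sup (H := Y) hxp (hsup.ge (hXi x hx))
  set q := QuotientGroup.mk' Y with hq
  have hqp : q x ^ p = 1 := by rw [← map_pow]; exact (QuotientGroup.eq_one_iff _).2 hxp
  have hR : q (app c x) = ev (q x) k := by rw [← map_ev]; exact (QuotientGroup.eq.2 hk).symm
  have hiter : ∀ i : ℕ, q (app (c ^ i) x) = ev (q x) (k ^ i) := by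
    intro i
    induction i with
    | zero => rw [pow_zero, app_one_aut, pow_zero, ev_one]
    | succ i ih =>
      have hxE : ev x (k ^ i) ∈ E := ev_mem (hX hx) _
      have hmem : app (c ^ i) x * (ev x (k ^ i))⁻¹ ∈ Y := by
        refine (QuotientGroup.eq_one_iff _).1 (show q _ = 1 from ?_)
        rw [map_mul, map_inv, map_ev, ih, mul_inv_cancel]
      rw [pow_succ', app_mul_aut, show app (c ^ i) x = (app (c ^ i) x * (ev x (k ^ i))⁻¹) * ev x (k ^ i) by group,
        app_mul c (hX (hY hmem)) hxE, map_mul, (QuotientGroup.eq_one_iff _).2 (hYi _ hmem) |> fun h =>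
          (show q (app c (app (c ^ i) x * (ev x (k ^ i))⁻¹)) = 1 from h), one_mul, app_ev c (hX hx), map_ev, hR,
        ← ev_mul hqp, pow_succ']
  have h1 := hiter (p ^ n)
  rw [hc, app_one_aut] at h1
  have hk1 : k ^ p ^ n = 1 :=
    ev_inj hqp (fun h => hxY ((QuotientGroup.eq_one_iff _).1 h)) (by rw [← h1, ev_one])
  have hkk : ∀ i : ℕ, k ^ p ^ i = k := fun i => by
    induction i with
    | zero => rw [pow_zero, pow_one]
    | succ i ih => rw [pow_succ, pow_mul, ih, ZMod.pow_card]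
  rw [hkk] at hk1
  rw [hk1, ev_one] at hR
  exact (QuotientGroup.eq_one_iff _).1 (show q _ = 1 by rw [map_mul, map_inv, hR, inv_mul_cancel])

/-- The conjugates of the group act trivially on an invariant factor of order `p`. -/
theorem kgen_small (hG : IsPGroup p G) {X Y : Subgroup G} (hX : X ≤ E) (hY : Y ≤ X)
    (hXi : Inv (kgen f E) X) (hYi : Inv (kgen f E) Y) (hcard : Nat.card X ≤ p * Nat.card Y) {d : MulAut E}
    (hd : d ∈ kgen f E) : ∀ x ∈ X, x⁻¹ * app d x ∈ Y := by
  haveI := normal_of_kinv f (hY.trans hX) hYi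
  revert hd
  refine fun hd => ?_
  suffices d ∈ kgen f E ∧ ∀ x ∈ X, x⁻¹ * app d x ∈ Y from this.2
  induction hd using Subgroup.closure_induction with
  | mem k hk =>
    have hk' : k ∈ kgen f E := Subgroup.subset_closure hk
    obtain ⟨a, ha, g, rfl⟩ := hk
    obtain ⟨n, hn⟩ := hG g
    refine ⟨hk', trivial_of_pElem hG (n := n) ?_ hX hY hcard (hXi _ hk') (hYi _ hk')⟩
    rw [conj_pow, ← map_pow, hn, map_one, mul_one, mul_inv_cancel]
  | one => exact ⟨one_mem _, fun x hx => by rw [app_one_aut, inv_mul_cancel]; exact one_mem _⟩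
  | mul a b ha hb iha ihb =>
    refine ⟨mul_mem ha hb, fun x hx => ?_⟩
    rw [app_mul_aut, show x⁻¹ * app a (app b x) = (x⁻¹ * app b x) * ((app b x)⁻¹ * app a (app b x)) by group]
    exact mul_mem (ihb.2 x hx) (iha.2 _ (hXi b hb x hx))
  | inv a ha iha =>
    refine ⟨inv_mem ha, fun x hx => ?_⟩
    have h := inv_mem (iha.2 _ (hXi a⁻¹ (inv_mem ha) x hx))
    rwa [app_app_inv, mul_inv_rev, inv_inv] at h

/-- An automorphism of order prime to `p` fixing modulo `N` the difference of an element fixes the element. -/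
theorem fix_mod (hG : IsPGroup p G) {c : MulAut E} (hc : ¬ p ∣ orderOf c) {N : Subgroup G} [N.Normal]
    (hNE : N ≤ E) (hNi : ∀ x ∈ N, app c x ∈ N) {y : G} (hy : y ∈ E)
    (hw : (y⁻¹ * app c y)⁻¹ * app c (y⁻¹ * app c y) ∈ N) : y⁻¹ * app c y ∈ N := by
  set w := y⁻¹ * app c y with hwd
  have hwE : w ∈ E := mul_mem (inv_mem hy) (app_mem c hy)
  set q := QuotientGroup.mk' N with hq
  have hcw : q (app c w) = q w := (QuotientGroup.eq.2 hw).symm
  have hn : ∀ n : ℕ, q (app (c ^ n) y) = q y * q w ^ n := by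
    intro n
    induction n with
    | zero => rw [pow_zero, app_one_aut, pow_zero, mul_one]
    | succ n ih =>
      have hmem : (y * w ^ n)⁻¹ * app (c ^ n) y ∈ N := QuotientGroup.eq.1 (show q _ = q _ by
        rw [map_mul, map_pow, ih])
      have e : app (c ^ n) y = y * w ^ n * ((y * w ^ n)⁻¹ * app (c ^ n) y) := by group
      rw [pow_succ', app_mul_aut, e, app_mul c (mul_mem hy (pow_mem hwE n)) (hNE hmem),
        app_mul c hy (pow_mem hwE n), app_pow c hwE, map_mul, map_mul, map_pow,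
        show q (app c ((y * w ^ n)⁻¹ * app (c ^ n) y)) = 1 from (QuotientGroup.eq_one_iff _).2 (hNi _ hmem),
        mul_one, hcw, show app c y = y * w by rw [hwd, mul_inv_cancel_left], map_mul, mul_assoc, ← pow_succ']
  have h1 := hn (orderOf c)
  rw [pow_orderOf_eq_one, app_one_aut, left_eq_mul] at h1
  obtain ⟨k, hk⟩ := hG w
  have hg : q w ^ Nat.gcd (orderOf c) (p ^ k) = 1 :=
    pow_gcd_eq_one.2 ⟨h1, by rw [← map_pow, hk, map_one]⟩
  rw [show Nat.gcd (orderOf c) (p ^ k) = 1 from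
    Nat.Coprime.pow_right k ((hp.out.coprime_iff_not_dvd.2 hc).symm), pow_one] at hg
  exact (QuotientGroup.eq_one_iff _).1 hg

omit [E.Normal] in
/-- The Frattini subgroup of an invariant subgroup is invariant. -/
theorem phi_inv {c : MulAut E} {Q : Subgroup G} (hQE : Q ≤ E) (hQi : ∀ x ∈ Q, app c x ∈ Q) :
    ∀ x ∈ phi Q, app c x ∈ phi Q := by
  let φ : Q →* Q :=
    { toFun := fun x => ⟨app c x, hQi x x.2⟩
      map_one' := Subtype.ext (app_one c)
      map_mul' := fun a b => Subtype.ext (app_mul c (hQE a.2) (hQE b.2)) }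
  have hinj : Function.Injective φ := fun a b hab => Subtype.ext (app_inj c (congrArg Subtype.val hab))
  let γ : MulAut Q := MulEquiv.ofBijective φ ⟨hinj, Finite.surjective_of_injective hinj⟩
  rintro _ ⟨x, hx, rfl⟩
  exact ⟨γ x, char_mem frattini_characteristic γ hx, rfl⟩

omit [E.Normal] in
/-- An automorphism of order prime to `p` trivial on the Frattini quotient of `Q` fixes `Q`. -/
theorem fix_of_phi (hG : IsPGroup p G) {c : MulAut E} (hc : ¬ p ∣ orderOf c) {Q : Subgroup G} (hQE : Q ≤ E)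
    (hQi : ∀ x ∈ Q, app c x ∈ Q) (h : ∀ x ∈ Q, x⁻¹ * app c x ∈ phi Q) : ∀ x ∈ Q, app c x = x := by
  let φ : Q →* Q :=
    { toFun := fun x => ⟨app c x, hQi x x.2⟩
      map_one' := Subtype.ext (app_one c)
      map_mul' := fun a b => Subtype.ext (app_mul c (hQE a.2) (hQE b.2)) }
  have hinj : Function.Injective φ := fun a b hab => Subtype.ext (app_inj c (congrArg Subtype.val hab))
  let γ : MulAut Q := MulEquiv.ofBijective φ ⟨hinj, Finite.surjective_of_injective hinj⟩
  have hpow : ∀ (n : ℕ) (x : Q), (((γ ^ n) x : Q) : G) = app (c ^ n) x := by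
    intro n x
    induction n with
    | zero => rw [pow_zero, pow_zero, app_one_aut]; rfl
    | succ n ih => rw [pow_succ', pow_succ', app_mul_aut, ← ih]; rfl
  have ho : orderOf γ ∣ orderOf c := orderOf_dvd_of_pow_eq_one (MulEquiv.ext fun x => Subtype.ext (by
    rw [hpow, pow_orderOf_eq_one, app_one_aut]; rfl))
  haveI : (frattini Q).Normal := inferInstance
  have h1 : γ = 1 := Cfsg.Agent.MetaOdd.eq_one_of_frattini (hG.to_subgroup Q)
    (Nat.Coprime.coprime_dvd_left ho (hp.out.coprime_iff_not_dvd.2 hc).symm) fun x =>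
      (inferInstance : (frattini Q).Normal).mem_comm (mem_phi.1 (h x x.2) : x⁻¹ * φ x ∈ frattini Q)
  intro x hx
  exact congrArg Subtype.val (congrArg (fun e : MulAut Q => e ⟨x, hx⟩) h1)

/-- An automorphism of order prime to `p` trivial on the Frattini quotient of the member is the identity. -/
theorem eq_one_of_phi (hG : IsPGroup p G) {c : MulAut E} (hc : ¬ p ∣ orderOf c)
    (h : ∀ x ∈ E, x⁻¹ * app c x ∈ phi E) : c = 1 :=
  aut_ext fun x hx => by
    rw [app_one_aut]
    exact fix_of_phi hG hc le_rfl (fun y hy => app_mem c hy) h x hx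

/-- The conjugates of the group do not generate a `p`-group. -/
theorem kgen_not_trivial (hE : E ∈ f.ess) (h : ∀ d ∈ kgen f E, ¬ p ∣ orderOf d → d = 1) :
    False := by
  have hK : IsPGroup p (kgen f E) := by
    intro c
    obtain ⟨k, m, hm, hkm⟩ := Nat.exists_eq_pow_mul_and_not_dvd (orderOf_pos c).ne' p hp.out.ne_one
    refine ⟨k, Subtype.ext (h _ (c ^ p ^ k).2 fun hdvd => hm (hdvd.trans (orderOf_dvd_of_pow_eq_one ?_)))⟩
    rw [← SubmonoidClass.coe_pow, ← pow_mul, ← hkm, pow_orderOf_eq_one]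
    rfl
  have hall : ∀ g : G, g ∈ E := fun g => by
    obtain ⟨q, hq, hk⟩ := f.radical E hE (kgen f E) (kgen_le f hE) (fun a ha k hk => kgen_conj f ha hk) hK _
      (conj_mem_kgen f g)
    have h : q⁻¹ * g ∈ E := f.cent E hE _ fun x hx => by
      have h := hk x hx
      rw [app_conjNormal g hx] at h
      show q⁻¹ * g * x = x * (q⁻¹ * g)
      calc q⁻¹ * g * x = q⁻¹ * (g * x * g⁻¹) * g := by group
        _ = x * (q⁻¹ * g) := by rw [h]; group
    have := mul_mem hq h
    rwa [mul_inv_cancel_left] at this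
  have hi := f.index E hE
  rw [show E = ⊤ from eq_top_iff.2 fun g _ => hall g, Subgroup.index_top] at hi
  exact hp.out.one_lt.ne hi

end Cfsg.Agent.RankThreeChar
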