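import Cfsg.Agent.Lib.RankThreeChar.SymLift
import Cfsg.Agent.Lib.RankThreeChar.Central
import Cfsg.Agent.Lib.RankThreeNormal.PairMain

/-!
Two members fixed by the automorphisms of the group: the group has central commutators or the symplectic shape.
-/

set_option autoImplicit false
set_option linter.unusedSectionVars false
set_option linter.style.haveILetI false
set_option maxHeartbeats 1000000

open scoped commutatorElement
open Cfsg.Agent.RankThreeEss Cfsg.Agent.RankThreeNormal

namespace Cfsg.Agent.RankThreeChar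

variable {G : Type*} [Group G] {p : ℕ} [hp : Fact p.Prime] [Finite G]

/-- The frame of two members with no common invariant subgroup. -/
noncomputable def duoFrame (D : Duo p G) (h0 : ∀ R, Com D.f R → R = ⊥) : Frame p G where
  ess := D.f.ess
  aut := D.f.aut
  autTop := D.f.autTop
  normal := D.f.normal
  index := D.f.index
  cent := D.f.cent
  conj := D.f.conj
  radical := D.f.radical
  sylow := D.f.sylow
  extend := D.f.extend
  core R hR hE := by
    obtain ⟨E, hE₀⟩ := D.exists_mem
    exact h0 R ⟨D.f.normal_of_inv hE₀ (hE E hE₀).1 (hE E hE₀).2, fun X hX => (hE X hX).1, fun X hX => (hE X hX).2, hR⟩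
  transport φ hφ E hE := by
    have h : E.map φ.toMonoidHom = E := Subgroup.eq_of_le_of_card_ge
      (by rintro _ ⟨x, hx, rfl⟩; exact D.fixed φ hφ E hE x hx) (by rw [Subgroup.card_map_of_injective φ.injective])
    rw [h]
    exact ⟨hE, D.f.move φ hφ E hE⟩
  fixCenter κ hκ k hk z hz := by
    obtain ⟨g, hg⟩ := D.inner κ hκ k hk
    rw [hg, ← (hz g).eq, mul_inv_cancel_right]

omit hp in
theorem nontrivial_of_duo (D : Duo p G) (hpp : p.Prime) : Nontrivial G := by
  obtain ⟨E, hE⟩ := D.exists_mem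
  by_contra h
  rw [not_nontrivial_iff_subsingleton] at h
  have hi := D.f.index E hE
  rw [Subsingleton.elim E ⊤, Subgroup.index_top] at hi
  exact hpp.one_lt.ne hi

/-- With no common invariant subgroup: small, or the shape. -/
theorem core_case (D : Duo p G) (hG : IsPGroup p G) (hsec : Cfsg.SectionalPRankLE p 3 G) (hp2 : p ≠ 2)
    (h0 : ∀ R, Com D.f R → R = ⊥) :
    (Nat.card G = p ^ 3 ∧ ∃ a b : G, ¬ Commute a b) ∨
      (Shape p G ∧ ∃ (A B : Subgroup G) (z y t x : G), SymData p D.f A B z y t x) := by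
  haveI := nontrivial_of_duo D hp.out
  obtain ⟨E₁, hE₁, E₂, hE₂, z, hz, hz2⟩ := exists_pair_member (duoFrame D h0) hG hsec hp2
  rcases shape_or_small (duoFrame D h0) hG hsec hp2 hE₁ hE₂ hz hz2 with hsh | h
  · exact Or.inr ⟨hsh, E₁, E₂, sym_data D hG hsec hp2 h0 hsh hE₁ hE₂ hz hz2⟩
  · exact Or.inl h

theorem pRankLE_of_injective {A B : Type*} [Group A] [Group B] (φ : A →* B) (hφ : Function.Injective φ) {k : ℕ}
    (h : Cfsg.PRankLE p k B) : Cfsg.PRankLE p k A := by
  intro K hK hexp
  have := h (K.map φ) (Subgroup.map_isMulCommutative K φ) (by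
    rintro _ ⟨a, ha, rfl⟩
    rw [← map_pow, hexp a ha, map_one])
  rwa [Subgroup.card_map_of_injective hφ] at this

theorem sectional_quotient {k : ℕ} (h : Cfsg.SectionalPRankLE p k G) (N : Subgroup G) [N.Normal] :
    Cfsg.SectionalPRankLE p k (G ⧸ N) := by
  intro H M _
  let f := QuotientGroup.mk' N
  let g : H.comap f →* H := (f.comp (H.comap f).subtype).codRestrict H fun x => x.2
  have hg : Function.Surjective ((QuotientGroup.mk' M).comp g) := by
    refine (QuotientGroup.mk'_surjective M).comp ?_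
    rintro ⟨y, hy⟩
    obtain ⟨x, rfl⟩ := QuotientGroup.mk'_surjective N y
    exact ⟨⟨x, hy⟩, rfl⟩
  let e := QuotientGroup.quotientKerEquivOfSurjective _ hg
  exact pRankLE_of_injective e.symm.toMonoidHom e.symm.injective (h (H.comap f) _)

/-- The commutators are central or the group has the shape with trivial common subgroup. -/
theorem duo_main (D : Duo p G) (hG : IsPGroup p G) (hsec : Cfsg.SectionalPRankLE p 3 G) (hp2 : p ≠ 2) :
    (∀ a b g : G, Commute ⁅a, b⁆ g) ∨
      (Shape p G ∧ ∃ (A B : Subgroup G) (z y t x : G), SymData p D.f A B z y t x) := by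
  obtain ⟨Q, hQ, hmax⟩ : ∃ Q, Com D.f Q ∧ ∀ R, Com D.f R → Nat.card R ≤ Nat.card Q := by
    haveI : Finite (Subgroup G) := inferInstance
    obtain ⟨Q, hQ, h⟩ := Set.exists_max_image {R | Com D.f R} (fun R => Nat.card R) (Set.toFinite _)
      ⟨⊥, com_bot D.f⟩
    exact ⟨Q, hQ, h⟩
  haveI := hQ.normal
  by_cases hQ1 : Q = ⊥
  · subst hQ1
    have h0 : ∀ R, Com D.f R → R = ⊥ := fun R hR =>
      Subgroup.eq_bot_of_card_eq R (le_antisymm ((hmax R hR).trans_eq Subgroup.card_bot) Nat.card_pos)
    rcases core_case D hG hsec hp2 h0 with ⟨hc, -⟩ | h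
    · refine Or.inl (small_central D hG hsec (Q := ⊥) hQ ?_ hp2)
      rw [← Subgroup.index_eq_card, Subgroup.index_bot, hc]
    · exact Or.inr h
  have hGq := hG.to_quotient Q
  have hsq := sectional_quotient (p := p) hsec Q
  have h0 : ∀ R, Com (quotDuo D hG hsec hQ).f R → R = ⊥ := by
    have hmax' : ∀ R, Com D.f R → Q ≤ R → R = Q := fun R hR hle =>
      (Subgroup.eq_of_le_of_card_ge hle (hmax R hR)).symm
    exact fun R hR => (quotFrame D hG hsec hQ hmax').core R hR.top fun E hE => ⟨hR.le E hE, hR.inv E hE⟩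
  rcases core_case (quotDuo D hG hsec hQ) hGq hsq hp2 h0 with ⟨hc, -⟩ | ⟨-, A, B, z, y, t, x, hd⟩
  · exact Or.inl (small_central D hG hsec hQ hc hp2)
  · exact (sym_lift D hG hsec hQ hQ1 hd).elim

omit hp in
/-- The shape has noncentral commutators. -/
theorem shape_not_class_two [Fact p.Prime] (hsh : Shape p G) : ¬ ∀ a b g : G, Commute ⁅a, b⁆ g := by
  intro h
  obtain ⟨hcard, z, y, t, x, hzp, hyp, htp, hxp, czy, czt, cyt, cxt, rz, ry, hgen⟩ := hsh
  have hy : ⁅x, z⁆ = y := by rw [commutatorElement_def, rz, czy.eq, mul_inv_cancel_right]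
  have hc : Commute y x := hy ▸ h x z x
  have ht : t = 1 := by rwa [← hc.eq, mul_inv_cancel_right, left_eq_mul] at ry
  subst ht
  set A := Subgroup.zpowers y ⊔ Subgroup.zpowers z with hA
  haveI : (Subgroup.zpowers y).Normal := ⟨fun a ha g => by
    obtain ⟨k, rfl⟩ := Subgroup.mem_zpowers_iff.1 ha
    rw [← ((hy ▸ h x z g : Commute y g).zpow_left k).eq, mul_inv_cancel_right]; exact ha⟩
  haveI : A.Normal := ⟨fun a ha g => by
    rw [show g * a * g⁻¹ = ⁅g, a⁆ * a by rw [commutatorElement_def]; group]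
    refine mul_mem ?_ ha
    have hcy : ∀ g ∈ ({z, y, 1, x} : Set G), ⁅g, z⁆ ∈ Subgroup.zpowers y := by
      rintro g (rfl | rfl | rfl | rfl)
      · rw [commutatorElement_self]; exact one_mem _
      · rw [commutatorElement_eq_one_iff_commute.2 czy.symm]; exact one_mem _
      · rw [commutatorElement_one_left]; exact one_mem _
      · rw [hy]; exact Subgroup.mem_zpowers _
    refine Subgroup.mem_sup_left (S := Subgroup.zpowers y) ?_
    let C : Subgroup G := (Subgroup.centralizer ((A.map (QuotientGroup.mk' (Subgroup.zpowers y))) :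
      Set (G ⧸ Subgroup.zpowers y))).comap (QuotientGroup.mk' (Subgroup.zpowers y))
    have htop : C = ⊤ := eq_top_iff.2 (hgen ▸ (Subgroup.closure_le C).2 fun r hr => by
      refine Subgroup.mem_centralizer_iff.2 ?_
      rintro _ ⟨a, ha, rfl⟩
      obtain ⟨u, hu, w, hw, rfl⟩ := Subgroup.mem_sup_of_normal_left.1 ha
      obtain ⟨k, rfl⟩ := Subgroup.mem_zpowers_iff.1 hw
      rw [map_mul, map_zpow, show QuotientGroup.mk' (Subgroup.zpowers y) u = 1 from (QuotientGroup.eq_one_iff u).2 hu,
        one_mul]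
      refine (Commute.zpow_left ?_ k).eq
      refine Commute.symm ?_
      rw [← commutatorElement_eq_one_iff_commute, ← map_commutatorElement]
      exact (QuotientGroup.eq_one_iff _).2 (hcy r hr))
    refine (QuotientGroup.eq_one_iff _).1 (show QuotientGroup.mk' (Subgroup.zpowers y) _ = 1 from ?_)
    rw [map_commutatorElement, commutatorElement_eq_one_iff_commute]
    exact (Subgroup.mem_centralizer_iff.1 (htop.ge (Subgroup.mem_top g)) _ ⟨a, ha, rfl⟩).symm⟩
  have htop : A ⊔ Subgroup.zpowers x = ⊤ := by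
    rw [eq_top_iff, ← hgen, Subgroup.closure_le]
    rintro r (rfl | rfl | rfl | rfl)
    exacts [Subgroup.mem_sup_left (Subgroup.mem_sup_right (Subgroup.mem_zpowers _)),
      Subgroup.mem_sup_left (Subgroup.mem_sup_left (Subgroup.mem_zpowers _)), one_mem _,
      Subgroup.mem_sup_right (Subgroup.mem_zpowers _)]
  have h1 : Nat.card (A ⊔ Subgroup.zpowers x : Subgroup G) ≤ p * Nat.card A :=
    card_le_mul_of_pow (by rw [hxp]; exact one_mem _)
  have h2 : Nat.card A ≤ p * Nat.card (Subgroup.zpowers y) := card_le_mul_of_pow (by rw [hzp]; exact one_mem _)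
  rw [htop, Subgroup.card_top, hcard] at h1
  have h3 := h1.trans (Nat.mul_le_mul_left p (h2.trans (Nat.mul_le_mul_left p (card_zpowers_le hyp))))
  have h4 : p ^ 4 ≤ p ^ 3 := h3.trans_eq (by ring)
  have := (Nat.pow_le_pow_iff_right (Fact.out : p.Prime).one_lt).1 h4
  omega

end Cfsg.Agent.RankThreeChar
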