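import Cfsg.Agent.Lib.RankThreeChar.Duo

/-!
The quotient of a member by a common invariant subgroup has at least two generators.
-/

set_option autoImplicit false
set_option linter.unusedSectionVars false
set_option linter.style.haveILetI false
set_option maxHeartbeats 1000000

open scoped commutatorElement
open Cfsg.Agent.RankThreeEss Cfsg.Agent.RankThreeNormal

namespace Cfsg.Agent.RankThreeChar

variable {G : Type*} [Group G] {p : ℕ} [hp : Fact p.Prime] [Finite G] {f : Pre p G} {E : Subgroup G}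

/-- An automorphism of order prime to `p` fixing `Q` and trivial on the top is the identity. -/
theorem eq_one_of_top (hG : IsPGroup p G) [E.Normal] {Q : Subgroup G} [Q.Normal] (hQE : Q ≤ E) {d : MulAut E}
    (hd : ¬ p ∣ orderOf d) (hQ : ∀ x ∈ Q, app d x = x) (htop : ∀ y ∈ E, y⁻¹ * app d y ∈ Q ⊔ phi E) : d = 1 := by
  refine eq_one_of_phi hG hd fun y hy => ?_
  have hΦ : ∀ x ∈ phi E, app d x ∈ phi E := phi_inv le_rfl fun x hx => app_mem d hx
  refine fix_mod hG hd (phi_le E) hΦ hy ?_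
  obtain ⟨u, hu, v, hv, huv⟩ := Subgroup.mem_sup_of_normal_left.1 (htop y hy)
  rw [← huv, app_mul d (hQE hu) (phi_le E hv), hQ u hu, mul_inv_rev, mul_assoc, inv_mul_cancel_left]
  exact mul_mem (inv_mem hv) (hΦ v hv)

/-- If the group acts trivially on the Frattini quotient of `Q`, so does `kgen`. -/
theorem fix_of_central (hG : IsPGroup p G) [E.Normal] {Q : Subgroup G} [Q.Normal] (hQE : Q ≤ E)
    (hQi : Inv (f.aut E) Q) (h : ∀ g : G, g ∈ cV Q) {d : MulAut E} (hd : d ∈ kgen f E) (hc : ¬ p ∣ orderOf d)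
    (hE : E ∈ f.ess) : ∀ x ∈ Q, app d x = x := by
  refine fix_of_phi hG hc hQE (fun x hx => hQi d (kgen_le f hE hd) x hx) fun x hx =>
    kgen_factor f hQE (phi_le Q) hQi (fun a ha => phi_inv hQE (hQi a ha)) (fun g x hx => ?_) hd x hx
  rw [show x⁻¹ * (g * x * g⁻¹) = x⁻¹ * ⁅g, x⁆ * (x⁻¹)⁻¹ by simp only [commutatorElement_def]; group]
  exact Subgroup.Normal.conj_mem inferInstance _ (mem_cV.1 (h g) x hx) _

theorem cV_inv [E.Normal] {Q : Subgroup G} [Q.Normal] (hQE : Q ≤ E) (hQi : Inv (f.aut E) Q) {x : G} (hx : x ∈ E)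
    (hxV : x ∈ cV Q) {a : MulAut E} (ha : a ∈ f.aut E) : app a x ∈ cV Q := by
  refine mem_cV.2 fun v hv => ?_
  have h1 := hQi a⁻¹ (inv_mem ha) v hv
  rw [show v = app a (app a⁻¹ v) from (app_app_inv a v).symm, ← app_commutator a hx (hQE h1)]
  exact phi_inv hQE (hQi a ha) _ (mem_cV.1 hxV _ h1)

variable (D : Duo p G)

theorem card_le_inf {A B : Subgroup G} (hB : B.index = p) [B.Normal] :
    Nat.card A ≤ p * Nat.card (A ⊓ B : Subgroup G) := by
  let φ : A →* G ⧸ B := (QuotientGroup.mk' B).comp A.subtype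
  have hk : φ.ker.map A.subtype = A ⊓ B := by
    ext x
    constructor
    · rintro ⟨a, ha, rfl⟩; exact ⟨a.2, (QuotientGroup.eq_one_iff _).1 ha⟩
    · rintro ⟨ha, hb⟩; exact ⟨⟨x, ha⟩, (QuotientGroup.eq_one_iff _).2 hb, rfl⟩
  rw [← hk, Subgroup.card_map_of_injective A.subtype_injective, ← φ.ker.card_mul_index, Subgroup.index_ker,
    mul_comm p]
  refine Nat.mul_le_mul_left _ ((Subgroup.card_le_card_group _).trans ?_)
  rw [← Subgroup.index_eq_card, hB]

theorem phi_le_member (hG : IsPGroup p G) {B : Subgroup G} [B.Normal] (hB : B.index = p) (A : Subgroup G) :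
    phi A ≤ B := by
  have hcard : Nat.card (G ⧸ B) = p := by rw [← Subgroup.index_eq_card, hB]
  haveI : IsCyclic (G ⧸ B) := isCyclic_of_prime_card hcard
  refine phi_le_of (p := p) (fun a _ b _ => ?_) ?_
  · refine (QuotientGroup.eq_one_iff _).1 (show QuotientGroup.mk' B _ = 1 from ?_)
    rw [map_commutatorElement, commutatorElement_eq_one_iff_mul_comm]
    exact IsCyclic.commGroup.mul_comm _ _
  · intro a _
    exact hB ▸ Subgroup.pow_index_mem B a

theorem exists_other {E : Subgroup G} (hE : E ∈ D.f.ess) : ∃ E' ∈ D.f.ess, E' ≠ E ∧ (E ⊓ E' : Subgroup G) ≤ E' ∧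
    ∀ X ∈ D.f.ess, X = E ∨ X = E' := by
  obtain ⟨E', hE', hne, hall⟩ := D.two E hE
  exact ⟨E', hE', hne, inf_le_right, hall⟩

theorem inf_lt {A B : Subgroup G} (hA : A.index = p) (hB : B.index = p) (hne : A ≠ B) : ∃ x ∈ A, x ∉ A ⊓ B := by
  by_contra! h
  have hle : A ≤ B := fun x hx => (h x hx).2
  refine hne (Subgroup.eq_of_le_of_card_ge hle (le_of_eq ?_))
  have h1 := A.card_mul_index
  rw [← B.card_mul_index, hA, hB] at h1
  exact (Nat.eq_of_mul_eq_mul_right hp.out.pos h1).symm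

/-- The intersection of the members is not a common invariant subgroup. -/
theorem no_meet (hG : IsPGroup p G) (hsec : Cfsg.SectionalPRankLE p 3 G) {A B : Subgroup G} (hA : A ∈ D.f.ess)
    (hB : B ∈ D.f.ess) (hne : A ≠ B) (hI : Com D.f (A ⊓ B)) : False := by
  haveI := hI.normal
  set I := A ⊓ B
  by_cases hC : ∀ X ∈ D.f.ess, X ≤ cV I
  · haveI := D.f.normal A hA
    haveI := D.f.normal B hB
    have hall : ∀ g : G, g ∈ cV I := by
      obtain ⟨x, hx, hxI⟩ := inf_lt (D.f.index A hA) (D.f.index B hB) hne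
      intro g
      refine (eq_top_of_index (D.f.index B hB) (hC B hB) (hC A hA hx) (fun h => hxI ⟨hx, h⟩)).ge (Subgroup.mem_top g)
    refine kgen_not_trivial D.f hA fun d hd hc => eq_one_of_top hG inf_le_left hc
      (fix_of_central hG inf_le_left (hI.inv A hA) hall hd hc hA) fun y hy => Subgroup.mem_sup_left ?_
    exact kgen_small D.f hG le_rfl inf_le_left (fun a _ x hx => app_mem a hx)
      (kinv_of_inv D.f hA (hI.inv A hA)) (card_le_inf (D.f.index B hB)) hd y hy
  · push Not at hC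
    obtain ⟨X, hX, hXC⟩ := hC
    obtain ⟨e, he, heC⟩ := SetLike.not_le_iff_exists.1 hXC
    haveI := D.f.normal X hX
    have hIX : I ≤ X := hI.le X hX
    have hc1 : Nat.card X ≤ p * Nat.card I := by
      haveI := D.f.normal A hA
      haveI := D.f.normal B hB
      rcases eq_or_ne X A with rfl | hXA
      · exact card_le_inf (D.f.index B hB)
      · obtain ⟨E', -, -, hall⟩ := D.two A hA
        have hXB : X = B := ((hall X hX).resolve_left hXA).trans ((hall B hB).resolve_left hne.symm).symm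
        subst hXB
        show _ ≤ p * Nat.card (A ⊓ X : Subgroup G)
        rw [inf_comm]
        exact card_le_inf (D.f.index A hA)
    have hfac : ∀ d ∈ kgen D.f X, ∀ y ∈ X, y⁻¹ * app d y ∈ I := fun d hd =>
      kgen_small D.f hG le_rfl hIX (fun a _ x hx => app_mem a hx) (kinv_of_inv D.f hX (hI.inv X hX)) hc1 hd
    refine kgen_not_trivial D.f hX fun d hd hc => eq_one_of_top hG hIX hc ?_ fun y hy =>
      Subgroup.mem_sup_left (hfac d hd y hy)
    exact fix_of_commuting hG hsec hIX (kinv_of_inv D.f hX (hI.inv X hX)) he heC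
      (fun a ha => le_cV hG I (hfac a ha e he)) hd hc

/-- The top of a member over a common invariant subgroup is not cyclic. -/
theorem big_quot (hG : IsPGroup p G) (hsec : Cfsg.SectionalPRankLE p 3 G) {Q : Subgroup G} (hQ : Com D.f Q)
    {E : Subgroup G} (hE : E ∈ D.f.ess) : p * Nat.card (Q ⊔ phi E : Subgroup G) < Nat.card E := by
  by_contra hle
  push Not at hle
  haveI := hQ.normal
  haveI := D.f.normal E hE
  obtain ⟨E', hE', hne, -, hall⟩ := exists_other D hE
  haveI := D.f.normal E' hE'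
  have hQE := hQ.le E hE
  set T := Q ⊔ phi E with hT
  have hTi : T ≤ E ⊓ E' := sup_le (le_inf hQE (hQ.le E' hE')) (le_inf (phi_le E) (phi_le_member hG (D.f.index E' hE') E))
  obtain ⟨e, he, heI⟩ := inf_lt (D.f.index E hE) (D.f.index E' hE') hne.symm
  have heT : e ∉ T := fun h => heI (hTi h)
  have hTE : T ≤ E := hTi.trans inf_le_left
  have hTcard : Nat.card E = p * Nat.card T := le_antisymm hle (step hG hTE he heT)
  have hTI : T = E ⊓ E' := Subgroup.eq_of_le_of_card_ge hTi (by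
    have h := step hG (inf_le_left : E ⊓ E' ≤ E) he heI
    rw [hTcard] at h
    exact Nat.le_of_mul_le_mul_left h hp.out.pos)
  have hgen : Q ⊔ Subgroup.zpowers e = E := by
    refine le_antisymm (sup_le hQE (Subgroup.zpowers_le.2 he)) ?_
    have h1 : ((Q ⊔ Subgroup.zpowers e) ⊔ phi E).subgroupOf E = ⊤ := by
      rw [show (Q ⊔ Subgroup.zpowers e) ⊔ phi E = E by
        rw [sup_right_comm, ← hT, eq_sup hG hTE hTcard he heT]]
      exact Subgroup.subgroupOf_self E
    rw [Subgroup.subgroupOf_sup (sup_le hQE (Subgroup.zpowers_le.2 he)) (phi_le E),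
      show (phi E).subgroupOf E = frattini E from Subgroup.comap_map_eq_self_of_injective E.subtype_injective _] at h1
    exact Subgroup.subgroupOf_eq_top.1 (frattini_nongenerating h1)
  set q := QuotientGroup.mk' Q with hq
  have hzp : ∀ a ∈ E, ∃ i : ℤ, q a = q e ^ i := fun a ha => by
    obtain ⟨u, hu, w, hw, rfl⟩ := Subgroup.mem_sup_of_normal_left.1 (hgen.ge ha)
    obtain ⟨i, rfl⟩ := Subgroup.mem_zpowers_iff.1 hw
    exact ⟨i, by rw [map_mul, map_zpow, show q u = 1 from (QuotientGroup.eq_one_iff u).2 hu, one_mul]⟩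
  have hW : phi E ≤ Q ⊔ Subgroup.zpowers (e ^ p) := by
    refine phi_le_of (p := p) (fun a ha b hb => Subgroup.mem_sup_left ?_) fun a ha => ?_
    · obtain ⟨i, hi⟩ := hzp a ha
      obtain ⟨k, hk⟩ := hzp b hb
      refine (QuotientGroup.eq_one_iff _).1 (show q _ = 1 from ?_)
      rw [map_commutatorElement, hi, hk, commutatorElement_eq_one_iff_commute]
      exact Commute.zpow_zpow_self _ _ _
    · obtain ⟨i, hi⟩ := hzp a ha
      have h1 : ((e ^ p) ^ i)⁻¹ * a ^ p ∈ Q := QuotientGroup.eq.1 (show q _ = q _ by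
        rw [map_zpow, map_pow, map_pow, hi, ← zpow_natCast, ← zpow_natCast, ← zpow_mul, ← zpow_mul, mul_comm])
      rw [show a ^ p = (e ^ p) ^ i * (((e ^ p) ^ i)⁻¹ * a ^ p) by group]
      exact mul_mem (Subgroup.mem_sup_right (zpow_mem (Subgroup.mem_zpowers _) i)) (Subgroup.mem_sup_left h1)
  have hTinv : Inv (D.f.aut E) T := fun a ha x hx => by
    obtain ⟨u, hu, v, hv, rfl⟩ := Subgroup.mem_sup_of_normal_left.1 hx
    rw [app_mul a (hQE hu) (phi_le E hv)]
    exact Subgroup.mul_mem_sup (hQ.inv E hE a ha u hu) (phi_inv le_rfl (fun x hx => app_mem a hx) v hv)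
  have hfac : ∀ d ∈ kgen D.f E, ∀ y ∈ E, y⁻¹ * app d y ∈ T := fun d hd =>
    kgen_small D.f hG le_rfl hTE (fun a _ x hx => app_mem a hx) (kinv_of_inv D.f hE hTinv) hle hd
  by_cases heC : e ∈ cV Q
  · -- the member is trivial on the layer
    have hEC : E ≤ cV Q := hgen ▸ sup_le (le_cV hG Q) (Subgroup.zpowers_le.2 heC)
    by_cases hE'C : E' ≤ cV Q
    · have hallC : ∀ g : G, g ∈ cV Q := fun g =>
        (eq_top_of_index (D.f.index E' hE') hE'C (hEC he) (fun h => heI ⟨he, h⟩)).ge (Subgroup.mem_top g)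
      exact kgen_not_trivial D.f hE fun d hd hc => eq_one_of_top hG hQE hc
        (fix_of_central hG hQE (hQ.inv E hE) hallC hd hc hE) (hfac d hd)
    · obtain ⟨w, hw, hwC⟩ := SetLike.not_le_iff_exists.1 hE'C
      have hI : E' ⊓ cV Q = E ⊓ E' := by
        refine (Subgroup.eq_of_le_of_card_ge (le_inf inf_le_right (inf_le_left.trans hEC)) ?_).symm
        have h1 := step hG (inf_le_left : E' ⊓ cV Q ≤ E') hw (fun h => hwC h.2)
        have h2 : Nat.card E' ≤ p * Nat.card (E ⊓ E' : Subgroup G) := by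
          rw [inf_comm]; exact card_le_inf (D.f.index E hE)
        exact Nat.le_of_mul_le_mul_left (h1.trans h2) hp.out.pos
      refine no_meet D hG hsec hE hE' hne.symm ⟨inferInstance, fun X hX => ?_, fun X hX a ha x hx => ?_,
        fun φ hφ x hx => ⟨D.fixed φ hφ E hE x hx.1, D.fixed φ hφ E' hE' x hx.2⟩⟩
      · rcases hall X hX with rfl | rfl
        exacts [inf_le_left, inf_le_right]
      · rcases hall X hX with rfl | rfl
        · rw [← hTI] at hx ⊢; exact hTinv a ha x hx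
        · rw [← hI] at hx ⊢
          exact ⟨app_mem a hx.1, cV_inv (hQ.le X hX) (hQ.inv X hX) hx.1 hx.2 ha⟩
  · -- a power of the generator acts nontrivially and commutes
    classical
    obtain ⟨n, hn⟩ := hG e
    have hex : ∃ j, e ^ p ^ (j + 1) ∈ cV Q := ⟨n, by rw [pow_succ, pow_mul, hn, one_pow]; exact one_mem _⟩
    set j := Nat.find hex
    have hj : e ^ p ^ (j + 1) ∈ cV Q := Nat.find_spec hex
    have hj' : e ^ p ^ j ∉ cV Q := by
      rcases Nat.eq_zero_or_pos j with h0 | h0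
      · rw [h0, pow_zero, pow_one]; exact heC
      · have := Nat.find_min hex (show j - 1 < j by omega)
        rwa [Nat.sub_add_cancel h0] at this
    refine kgen_not_trivial D.f hE fun d hd hc => eq_one_of_top hG hQE hc ?_ (hfac d hd)
    refine fix_of_commuting hG hsec hQE (kinv_of_inv D.f hE (hQ.inv E hE)) (pow_mem he _) hj' (fun a ha => ?_) hd hc
    obtain ⟨u, hu, w, hw, huw⟩ := Subgroup.mem_sup_of_normal_left.1
      ((sup_le le_sup_left hW : T ≤ Q ⊔ Subgroup.zpowers (e ^ p)) (hfac a ha e he))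
    obtain ⟨i, rfl⟩ := Subgroup.mem_zpowers_iff.1 hw
    have h1 : q (app a e) = q e * (q e ^ p) ^ i := by
      rw [show app a e = e * (u * (e ^ p) ^ i) by rw [huw]; group, map_mul, map_mul, map_zpow, map_pow,
        show q u = 1 from (QuotientGroup.eq_one_iff u).2 hu, one_mul]
    have h2 : ((e ^ p ^ (j + 1)) ^ i)⁻¹ * ((e ^ p ^ j)⁻¹ * app a (e ^ p ^ j)) ∈ Q := by
      refine QuotientGroup.eq.1 (show q _ = q _ from ?_)
      rw [app_pow a he, map_mul, map_inv, map_zpow, map_pow, map_pow, map_pow, h1,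
        ((Commute.refl (q e)).pow_right p).zpow_right i |>.mul_pow, inv_mul_cancel_left, ← zpow_natCast ((q e ^ p) ^ i),
        ← zpow_mul, mul_comm i, zpow_mul, zpow_natCast, ← pow_mul, ← pow_succ']
    have := mul_mem (zpow_mem hj i) (le_cV hG Q h2)
    rwa [mul_inv_cancel_left] at this

/-- The Frattini part of a common invariant subgroup in a member has order at most `p`. -/
theorem card_top_le (hG : IsPGroup p G) (hsec : Cfsg.SectionalPRankLE p 3 G) {Q : Subgroup G} (hQ : Com D.f Q)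
    {E : Subgroup G} (hE : E ∈ D.f.ess) : Nat.card (Q ⊔ phi E : Subgroup G) ≤ p * Nat.card (phi E) := by
  have h1 := big_quot D hG hsec hQ hE
  have h2 := card_le_phi hG hsec E
  obtain ⟨a, ha⟩ := IsPGroup.iff_card.1 (hG.to_subgroup E)
  obtain ⟨b, hb⟩ := IsPGroup.iff_card.1 (hG.to_subgroup (Q ⊔ phi E))
  obtain ⟨c, hc⟩ := IsPGroup.iff_card.1 (hG.to_subgroup (phi E))
  rw [ha, hb, ← pow_succ'] at h1
  rw [ha, hc, ← pow_add] at h2
  rw [hb, hc, ← pow_succ']
  have e1 := (Nat.pow_lt_pow_iff_right hp.out.one_lt).1 h1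
  have e2 := (Nat.pow_le_pow_iff_right hp.out.one_lt).1 h2
  exact Nat.pow_le_pow_right hp.out.pos (by omega)

/-- An element of order prime to `p` in `kgen`, trivial on `E` modulo the top part, is the identity. -/
theorem eq_one_of_quot (hG : IsPGroup p G) (hsec : Cfsg.SectionalPRankLE p 3 G) {Q : Subgroup G} (hQ : Com D.f Q)
    {E : Subgroup G} (hE : E ∈ D.f.ess) [E.Normal] {d : MulAut E} (hd : d ∈ kgen D.f E) (hc : ¬ p ∣ orderOf d)
    (h : ∀ y ∈ E, y⁻¹ * app d y ∈ Q ⊔ phi E) : d = 1 := by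
  haveI := hQ.normal
  have hTE : Q ⊔ phi E ≤ E := sup_le (hQ.le E hE) (phi_le E)
  have hΦ : Inv (kgen D.f E) (phi E) := fun a _ => phi_inv le_rfl fun x hx => app_mem a hx
  have hTi : Inv (kgen D.f E) (Q ⊔ phi E) := fun a ha x hx => by
    obtain ⟨u, hu, v, hv, rfl⟩ := Subgroup.mem_sup_of_normal_left.1 hx
    rw [app_mul a (hQ.le E hE hu) (phi_le E hv)]
    exact Subgroup.mul_mem_sup (hQ.inv E hE a (kgen_le D.f hE ha) u hu) (hΦ a ha v hv)
  refine eq_one_of_phi hG hc fun y hy => fix_mod hG hc (phi_le E) (hΦ d hd) hy ?_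
  exact kgen_small D.f hG hTE le_sup_right hTi hΦ (card_top_le D hG hsec hQ hE) hd _ (h y hy)

/-- Only the member centralizes the member modulo a common invariant subgroup. -/
theorem mem_of_trivial (hG : IsPGroup p G) (hsec : Cfsg.SectionalPRankLE p 3 G) {Q : Subgroup G} (hQ : Com D.f Q)
    {E : Subgroup G} (hE : E ∈ D.f.ess) {g : G} (hg : ∀ x ∈ E, x⁻¹ * (g * x * g⁻¹) ∈ Q) : g ∈ E := by
  by_contra hgE
  haveI := D.f.normal E hE
  haveI := hQ.normal
  set T := Q ⊔ phi E
  set π := QuotientGroup.mk' T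
  have hmem : ∀ {h : G}, h ∈ (Subgroup.centralizer ((E.map π) : Set (G ⧸ T))).comap π ↔
      ∀ x ∈ E, x⁻¹ * (h * x * h⁻¹) ∈ T := fun {h} => by
    simp only [Subgroup.mem_comap, Subgroup.mem_centralizer_iff, SetLike.mem_coe, Subgroup.mem_map,
      forall_exists_index, and_imp, forall_apply_eq_imp_iff₂]
    refine forall₂_congr fun x _ => ?_
    rw [← map_mul, ← map_mul]
    constructor
    · intro e
      have h1 := QuotientGroup.eq.1 e
      have h2 := Subgroup.Normal.conj_mem inferInstance _ h1 h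
      rwa [show h * ((x * h)⁻¹ * (h * x)) * h⁻¹ = x⁻¹ * (h * x * h⁻¹) by group] at h2
    · intro h2
      refine QuotientGroup.eq.2 ?_
      have h3 := Subgroup.Normal.conj_mem inferInstance _ h2 h⁻¹
      rwa [show h⁻¹ * (x⁻¹ * (h * x * h⁻¹)) * h⁻¹⁻¹ = (x * h)⁻¹ * (h * x) by group] at h3
  have hall : ∀ h : G, ∀ x ∈ E, x⁻¹ * (h * x * h⁻¹) ∈ T := fun h => hmem.1
    ((eq_top_of_index (D.f.index E hE) (fun e he => hmem.2 fun x hx => by
      refine Subgroup.mem_sup_right ?_
      rw [show x⁻¹ * (e * x * e⁻¹) = x⁻¹ * ⁅e, x⁆ * (x⁻¹)⁻¹ by simp only [commutatorElement_def]; group]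
      exact Subgroup.Normal.conj_mem inferInstance _ (comm_mem_phi hG he hx) _)
      (hmem.2 fun x hx => Subgroup.mem_sup_left (hg x hx)) hgE).ge (Subgroup.mem_top h))
  have hTi : Inv (D.f.aut E) T := fun a ha x hx => by
    obtain ⟨u, hu, v, hv, rfl⟩ := Subgroup.mem_sup_of_normal_left.1 hx
    rw [app_mul a (hQ.le E hE hu) (phi_le E hv)]
    exact Subgroup.mul_mem_sup (hQ.inv E hE a ha u hu) (phi_inv le_rfl (fun x hx => app_mem a hx) v hv)
  exact kgen_not_trivial D.f hE fun d hd hc => eq_one_of_quot D hG hsec hQ hE hd hc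
    (kgen_factor D.f le_rfl (sup_le (hQ.le E hE) (phi_le E)) (fun a _ x hx => app_mem a hx) hTi hall hd)

/-- No invariant subgroup cuts the top of a member into two steps of order at most `p`. -/
theorem no_line (hG : IsPGroup p G) (hsec : Cfsg.SectionalPRankLE p 3 G) {Q : Subgroup G} (hQ : Com D.f Q)
    {E : Subgroup G} (hE : E ∈ D.f.ess) {X : Subgroup G} (hQX : Q ⊔ phi E ≤ X) (hXE : X ≤ E)
    (hXi : Inv (D.f.aut E) X) (c1 : Nat.card X ≤ p * Nat.card (Q ⊔ phi E : Subgroup G))
    (c2 : Nat.card E ≤ p * Nat.card X) : False := by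
  haveI := D.f.normal E hE
  haveI := hQ.normal
  have hTi : Inv (kgen D.f E) (Q ⊔ phi E) := fun a ha x hx => by
    obtain ⟨u, hu, v, hv, rfl⟩ := Subgroup.mem_sup_of_normal_left.1 hx
    rw [app_mul a (hQ.le E hE hu) (phi_le E hv)]
    exact Subgroup.mul_mem_sup (hQ.inv E hE a (kgen_le D.f hE ha) u hu) (phi_inv le_rfl (fun x hx => app_mem a hx) v hv)
  refine kgen_not_trivial D.f hE fun d hd hc => eq_one_of_quot D hG hsec hQ hE hd hc fun y hy => ?_
  refine fix_mod hG hc (sup_le (hQ.le E hE) (phi_le E)) (hTi d hd) hy ?_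
  exact kgen_small D.f hG hXE hQX (kinv_of_inv D.f hE hXi) hTi c1 hd _
    (kgen_small D.f hG le_rfl hXE (fun a _ x hx => app_mem a hx) (kinv_of_inv D.f hE hXi) c2 hd y hy)

end Cfsg.Agent.RankThreeChar
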