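import Cfsg.Agent.Lib.RankThreeChar.Meet
import Mathlib.GroupTheory.Sylow

/-!
The two members modulo a largest common invariant subgroup.
-/

set_option autoImplicit false
set_option linter.unusedSectionVars false
set_option linter.style.haveILetI false
set_option maxHeartbeats 1000000

open scoped commutatorElement
open Cfsg.Agent.RankThreeEss Cfsg.Agent.RankThreeNormal

namespace Cfsg.Agent.RankThreeChar

variable {G : Type*} [Group G] {p : ℕ}

/-- The automorphisms of a member of the quotient that come from the member upstairs. -/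
def autQ (f : Pre p G) (Q : Subgroup G) [Q.Normal] (Ebar : Subgroup (G ⧸ Q)) : Subgroup (MulAut Ebar) where
  carrier := {b | ∃ a ∈ f.aut (Ebar.comap (QuotientGroup.mk' Q)), ∀ x ∈ Ebar.comap (QuotientGroup.mk' Q),
    app b (QuotientGroup.mk' Q x) = QuotientGroup.mk' Q (app a x)}
  one_mem' := ⟨1, one_mem _, fun x _ => by rw [app_one_aut, app_one_aut]⟩
  mul_mem' := by
    rintro b b' ⟨a, ha, h⟩ ⟨a', ha', h'⟩
    exact ⟨a * a', mul_mem ha ha', fun x hx => by
      rw [app_mul_aut, app_mul_aut, h' x hx, h _ (app_mem a' hx)]⟩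
  inv_mem' := by
    rintro b ⟨a, ha, h⟩
    refine ⟨a⁻¹, inv_mem ha, fun x hx => app_inj b ?_⟩
    rw [app_app_inv, h _ (app_mem a⁻¹ hx), app_app_inv]

/-- The automorphisms of the quotient coming from the group. -/
def autTopQ (f : Pre p G) (Q : Subgroup G) [Q.Normal] : Subgroup (MulAut (G ⧸ Q)) where
  carrier := {b | ∃ a ∈ f.autTop, ∀ x, b (QuotientGroup.mk' Q x) = QuotientGroup.mk' Q (a x)}
  one_mem' := ⟨1, one_mem _, fun _ => rfl⟩
  mul_mem' := by
    rintro b b' ⟨a, ha, h⟩ ⟨a', ha', h'⟩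
    exact ⟨a * a', mul_mem ha ha', fun x => by rw [MulAut.mul_apply, MulAut.mul_apply, h', h]⟩
  inv_mem' := by
    rintro b ⟨a, ha, h⟩
    refine ⟨a⁻¹, inv_mem ha, fun x => b.injective ?_⟩
    rw [MulAut.apply_inv_self, h, MulAut.apply_inv_self]

/-- The members of the quotient. -/
def essQ (f : Pre p G) (Q : Subgroup G) [Q.Normal] : Set (Subgroup (G ⧸ Q)) :=
  {Ebar | Ebar.comap (QuotientGroup.mk' Q) ∈ f.ess}

/-- A power that is a `p`-element and agrees with the original on an image that is one. -/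
theorem exists_power [hp : Fact p.Prime] {H : Type*} [Group H] [Finite H] (a : H) (n : ℕ) :
    ∃ u : ℕ, (∃ i, (a ^ u) ^ p ^ i = 1) ∧ u ≡ 1 [MOD p ^ n] := by
  obtain ⟨k, m, hm, hkm⟩ := Nat.exists_eq_pow_mul_and_not_dvd (orderOf_pos a).ne' p hp.out.ne_one
  have hco : Nat.Coprime (p ^ n) m := Nat.Coprime.pow_left n (hp.out.coprime_iff_not_dvd.2 hm)
  obtain ⟨u, hu1, hu0⟩ := Nat.chineseRemainder hco 1 0
  refine ⟨u, ⟨k, ?_⟩, hu1⟩
  rw [← pow_mul]
  refine orderOf_dvd_iff_pow_eq_one.1 ?_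
  rw [hkm, mul_comm u]
  exact Nat.mul_dvd_mul_left _ (Nat.modEq_zero_iff_dvd.1 hu0)

theorem pow_of_modEq {H : Type*} [Group H] {k : H} {N u : ℕ} (hk : k ^ N = 1) (hu : u ≡ 1 [MOD N]) : k ^ u = k := by
  conv_rhs => rw [← pow_one k]
  exact pow_eq_pow_iff_modEq.2 (hu.of_dvd (orderOf_dvd_of_pow_eq_one hk))

variable [hp : Fact p.Prime] [Finite G]

/-- An automorphism of a member gives one of its image. -/
theorem exists_image {Q : Subgroup G} [Q.Normal] {Ebar : Subgroup (G ⧸ Q)}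
    (a : MulAut (Ebar.comap (QuotientGroup.mk' Q))) (ha : ∀ x ∈ Q, app a x ∈ Q) :
    ∃ b : MulAut Ebar, ∀ x ∈ Ebar.comap (QuotientGroup.mk' Q),
      app b (QuotientGroup.mk' Q x) = QuotientGroup.mk' Q (app a x) := by
  let ψ : Ebar.comap (QuotientGroup.mk' Q) →* Ebar :=
    { toFun := fun x => ⟨(QuotientGroup.mk' Q) x, x.2⟩
      map_one' := Subtype.ext (map_one (QuotientGroup.mk' Q))
      map_mul' := fun x y => Subtype.ext (map_mul (QuotientGroup.mk' Q) _ _) }
  let φ : Ebar.comap (QuotientGroup.mk' Q) →* Ebar := ψ.comp a.toMonoidHom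
  have hψ : Function.Surjective ψ := fun y => by
    obtain ⟨x, hx⟩ := QuotientGroup.mk'_surjective Q (y : G ⧸ Q)
    exact ⟨⟨x, by rw [Subgroup.mem_comap, hx]; exact y.2⟩, Subtype.ext hx⟩
  have hker : ψ.ker ≤ φ.ker := fun x hx => by
    refine Subtype.ext ?_
    show (QuotientGroup.mk' Q) ((a x : Ebar.comap (QuotientGroup.mk' Q)) : G) = 1
    refine (QuotientGroup.eq_one_iff _).2 ?_
    rw [← app_coe a x]
    exact ha _ ((QuotientGroup.eq_one_iff _).1 (congrArg Subtype.val hx))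
  let β := ψ.liftOfSurjective hψ ⟨φ, hker⟩
  have hβ : ∀ x, β (ψ x) = φ x := fun x => MonoidHom.liftOfRightInverse_comp_apply ψ _ _ _ x
  have hsurj : Function.Surjective β := fun y => by
    obtain ⟨x, hx⟩ := hψ y
    obtain ⟨w, rfl⟩ := a.surjective x
    exact ⟨ψ w, by rw [hβ]; exact hx⟩
  refine ⟨MulEquiv.ofBijective β ⟨Finite.injective_iff_surjective.2 hsurj, hsurj⟩, fun x hx => ?_⟩
  lift x to Ebar.comap (QuotientGroup.mk' Q) using hx
  rw [app_coe]
  show app _ ((ψ x : Ebar) : G ⧸ Q) = _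
  rw [app_coe]
  exact congrArg Subtype.val (hβ x)

variable (D : Duo p G) {Q : Subgroup G} [Q.Normal]

theorem inv_of_com (hQ : Com D.f Q) {Ebar : Subgroup (G ⧸ Q)} (hE : Ebar ∈ essQ D.f Q)
    {a : MulAut (Ebar.comap (QuotientGroup.mk' Q))} (ha : a ∈ D.f.aut _) : ∀ x ∈ Q, app a x ∈ Q :=
  fun x hx => hQ.inv _ hE a ha x hx

variable (hG : IsPGroup p G) (hsec : Cfsg.SectionalPRankLE p 3 G) (hQ : Com D.f Q)
include hG hsec hQ

theorem radicalQ (Ebar : Subgroup (G ⧸ Q)) (hE : Ebar ∈ essQ D.f Q) (K : Subgroup (MulAut Ebar))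
    (hK : K ≤ autQ D.f Q Ebar) (hn : ∀ b ∈ autQ D.f Q Ebar, ∀ k ∈ K, b * k * b⁻¹ ∈ K) (hKp : IsPGroup p K) :
    ∀ k ∈ K, ∃ q ∈ Ebar, ∀ x ∈ Ebar, app k x = q * x * q⁻¹ := by
  classical
  set π := QuotientGroup.mk' Q with hπ
  set E := Ebar.comap π with hEd
  haveI := D.f.normal E hE
  -- the lifts lying in `kgen`
  let M : Subgroup (MulAut E) :=
    { carrier := {a | a ∈ kgen D.f E ∧ ∃ k ∈ K, ∀ x ∈ E, app k (π x) = π (app a x)}
      one_mem' := ⟨one_mem _, 1, one_mem _, fun x _ => by rw [app_one_aut, app_one_aut]⟩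
      mul_mem' := by
        rintro a a' ⟨ha, k, hk, h⟩ ⟨ha', k', hk', h'⟩
        exact ⟨mul_mem ha ha', k * k', mul_mem hk hk', fun x hx => by
          rw [app_mul_aut, app_mul_aut, h' x hx, h _ (app_mem a' hx)]⟩
      inv_mem' := by
        rintro a ⟨ha, k, hk, h⟩
        refine ⟨inv_mem ha, k⁻¹, inv_mem hk, fun x hx => app_inj k ?_⟩
        rw [app_app_inv, h _ (app_mem a⁻¹ hx), app_app_inv] }
  have hMn : ∀ b ∈ D.f.aut E, ∀ m ∈ M, b * m * b⁻¹ ∈ M := by
    rintro b hb m ⟨hm, k, hk, h⟩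
    obtain ⟨bq, hbq⟩ := exists_image b (inv_of_com D hQ hE hb)
    refine ⟨kgen_conj D.f hb hm, bq * k * bq⁻¹, hn bq ⟨b, hb, hbq⟩ k hk, fun x hx => ?_⟩
    have h1 : app bq⁻¹ (π x) = π (app b⁻¹ x) := app_inj bq (by
      rw [app_app_inv, hbq _ (app_mem b⁻¹ hx), app_app_inv])
    rw [app_mul_aut, app_mul_aut, app_mul_aut, app_mul_aut, h1, h _ (app_mem b⁻¹ hx),
      hbq _ (app_mem m (app_mem b⁻¹ hx))]
  have hMp : IsPGroup p M := by
    intro c
    obtain ⟨i, m, hm, him⟩ := Nat.exists_eq_pow_mul_and_not_dvd (orderOf_pos c).ne' p hp.out.ne_one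
    refine ⟨i, Subtype.ext ?_⟩
    obtain ⟨hd, k, hk, h⟩ := (c ^ p ^ i).2
    set d : MulAut E := ((c ^ p ^ i : M) : MulAut E) with hdd
    have hdm : d ^ m = 1 := by
      rw [hdd, ← SubmonoidClass.coe_pow, ← pow_mul, ← him, pow_orderOf_eq_one]; rfl
    have hit : ∀ (n : ℕ), ∀ x ∈ E, app (k ^ n) (π x) = π (app (d ^ n) x) := by
      intro n
      induction n with
      | zero => exact fun x _ => by rw [pow_zero, pow_zero, app_one_aut, app_one_aut]
      | succ n ih =>
        intro x hx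
        rw [pow_succ', pow_succ', app_mul_aut, app_mul_aut, ih x hx, h _ (app_mem _ hx)]
    have hk1 : k = 1 := by
      obtain ⟨n, hn'⟩ := hKp ⟨k, hk⟩
      have hkn : k ^ p ^ n = 1 := congrArg Subtype.val hn'
      have hkm : k ^ m = 1 := aut_ext fun y hy => by
        obtain ⟨x, rfl⟩ := QuotientGroup.mk'_surjective Q y
        rw [hit m x hy, hdm, app_one_aut, app_one_aut]
      have h2 : k ^ Nat.gcd m (p ^ n) = 1 := pow_gcd_eq_one.2 ⟨hkm, hkn⟩
      rwa [show Nat.gcd m (p ^ n) = 1 from Nat.Coprime.pow_right n ((hp.out.coprime_iff_not_dvd.2 hm).symm),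
        pow_one] at h2
    refine eq_one_of_quot D hG hsec hQ hE hd (fun hdvd => hm (hdvd.trans (orderOf_dvd_of_pow_eq_one hdm)))
      fun y hy => Subgroup.mem_sup_left (QuotientGroup.eq.1 (show π y = π (app d y) from ?_))
    rw [← h y hy, hk1, app_one_aut]
  intro k hk
  obtain ⟨a, ha, hak⟩ := hK hk
  obtain ⟨n, hn'⟩ := hKp ⟨k, hk⟩
  have hkn : k ^ p ^ n = 1 := congrArg Subtype.val hn'
  haveI : Finite (MulAut E) := inferInstance
  obtain ⟨u, ⟨i, hui⟩, hu1⟩ := exists_power (p := p) a n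
  have hit : ∀ (n : ℕ), ∀ x ∈ E, app (k ^ n) (π x) = π (app (a ^ n) x) := by
    intro n
    induction n with
    | zero => exact fun x _ => by rw [pow_zero, pow_zero, app_one_aut, app_one_aut]
    | succ n ih =>
      intro x hx
      rw [pow_succ', pow_succ', app_mul_aut, app_mul_aut, ih x hx, hak _ (app_mem _ hx)]
  -- the power lies in a conjugate of the Sylow subgroup
  set R := ((MulAut.conjNormal : G →* MulAut E).range).subgroupOf (D.f.aut E) with hR
  have hRle : (MulAut.conjNormal : G →* MulAut E).range ≤ D.f.aut E := by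
    rintro _ ⟨g, rfl⟩; exact D.f.conj_mem hE g
  have hRp : IsPGroup p R := (hG.to_subgroup ⊤).map
    (MulAut.conjNormal : G →* MulAut E) |> fun h => by
      rw [← MonoidHom.range_eq_map] at h
      exact h.comap_of_injective (D.f.aut E).subtype (D.f.aut E).subtype_injective
  let P : Sylow p (D.f.aut E) :=
    { R with
      isPGroup' := hRp
      is_maximal' := fun {K'} hK' hle => le_antisymm (fun c hc => by
        obtain ⟨g, hg⟩ := D.f.sylow E hE (K'.map (D.f.aut E).subtype) (Subgroup.map_subtype_le _) (hK'.map _)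
          (fun g a ha => ⟨⟨MulAut.conjNormal g, D.f.conj_mem hE g⟩, hle ⟨g, rfl⟩,
            aut_ext fun x hx => by rw [ha x hx]; exact app_conjNormal g hx⟩) _ ⟨c, hc, rfl⟩
        exact ⟨g, aut_ext fun x hx => by rw [app_conjNormal g hx]; exact (hg x hx).symm⟩) hle }
  set c : D.f.aut E := ⟨a ^ u, pow_mem ha u⟩ with hc
  have hcp : IsPGroup p (Subgroup.zpowers c) := by
    intro w
    obtain ⟨j, hj⟩ := Subgroup.mem_zpowers_iff.1 w.2
    refine ⟨i, Subtype.ext ?_⟩
    rw [SubmonoidClass.coe_pow, ← hj, Subgroup.coe_one, ← zpow_natCast, zpow_comm, zpow_natCast,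
      show c ^ p ^ i = 1 from Subtype.ext (by rw [SubmonoidClass.coe_pow]; exact hui), one_zpow]
  obtain ⟨P', hP'⟩ := hcp.exists_le_sylow
  obtain ⟨b, hb⟩ := MulAction.exists_smul_eq (D.f.aut E) P P'
  have hcK : (c : MulAut E) ∈ kgen D.f E := by
    have h1 := hP' (Subgroup.mem_zpowers c)
    rw [← hb, Sylow.coe_subgroup_smul] at h1
    obtain ⟨w, hw, hwc⟩ := h1
    obtain ⟨g, hg⟩ := hw
    rw [← hwc]
    show (b : MulAut E) * (w : MulAut E) * (b : MulAut E)⁻¹ ∈ _
    rw [show (w : MulAut E) = MulAut.conjNormal g from hg.symm]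
    exact gen_mem D.f b.2 g
  have hkau : ∀ x ∈ E, app k (π x) = π (app (a ^ u) x) := fun x hx => by
    rw [← hit u x hx, pow_of_modEq hkn hu1]
  obtain ⟨q, hq, hqq⟩ := D.f.radical E hE M (fun m hm => kgen_le D.f hE hm.1) hMn hMp (a ^ u)
    ⟨hcK, k, hk, hkau⟩
  refine ⟨π q, hq, fun y hy => ?_⟩
  obtain ⟨x, rfl⟩ := QuotientGroup.mk'_surjective Q y
  rw [hkau x hy, hqq x hy, map_mul, map_mul, map_inv]

theorem sylowQ (Ebar : Subgroup (G ⧸ Q)) (hE : Ebar ∈ essQ D.f Q) (K : Subgroup (MulAut Ebar))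
    (hK : K ≤ autQ D.f Q Ebar) (hKp : IsPGroup p K)
    (hconj : ∀ g : G ⧸ Q, ∀ a : MulAut Ebar, (∀ x ∈ Ebar, app a x = g * x * g⁻¹) → a ∈ K) :
    ∀ k ∈ K, ∃ g : G ⧸ Q, ∀ x ∈ Ebar, app k x = g * x * g⁻¹ := by
  classical
  set π := QuotientGroup.mk' Q with hπ
  set E := Ebar.comap π with hEd
  haveI := D.f.normal E hE
  haveI hEb : Ebar.Normal := by
    rw [← Subgroup.map_comap_eq_self_of_surjective (QuotientGroup.mk'_surjective Q) Ebar]
    exact Subgroup.Normal.map inferInstance _ (QuotientGroup.mk'_surjective Q)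
  let M : Subgroup (MulAut E) :=
    { carrier := {a | a ∈ D.f.aut E ∧ ∃ k ∈ K, ∀ x ∈ E, app k (π x) = π (app a x)}
      one_mem' := ⟨one_mem _, 1, one_mem _, fun x _ => by rw [app_one_aut, app_one_aut]⟩
      mul_mem' := by
        rintro a a' ⟨ha, k, hk, h⟩ ⟨ha', k', hk', h'⟩
        exact ⟨mul_mem ha ha', k * k', mul_mem hk hk', fun x hx => by
          rw [app_mul_aut, app_mul_aut, h' x hx, h _ (app_mem a' hx)]⟩
      inv_mem' := by
        rintro a ⟨ha, k, hk, h⟩
        refine ⟨inv_mem ha, k⁻¹, inv_mem hk, fun x hx => app_inj k ?_⟩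
        rw [app_app_inv, h _ (app_mem a⁻¹ hx), app_app_inv] }
  have huniq : ∀ {k k' : MulAut Ebar} {a : MulAut E}, (∀ x ∈ E, app k (π x) = π (app a x)) →
      (∀ x ∈ E, app k' (π x) = π (app a x)) → k = k' := fun h h' => aut_ext fun y hy => by
    obtain ⟨x, rfl⟩ := QuotientGroup.mk'_surjective Q y
    rw [h x hy, h' x hy]
  let ψ : M →* K :=
    { toFun := fun a => ⟨a.2.2.choose, a.2.2.choose_spec.1⟩
      map_one' := Subtype.ext (huniq (a := (1 : MulAut E)) (1 : M).2.2.choose_spec.2 fun x _ => by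
        rw [Subgroup.coe_one, app_one_aut, app_one_aut])
      map_mul' := fun a b => Subtype.ext (huniq (a := ((a * b : M) : MulAut E)) (a * b).2.2.choose_spec.2 fun x hx => by
        rw [Subgroup.coe_mul, Subgroup.coe_mul, app_mul_aut, app_mul_aut, b.2.2.choose_spec.2 x hx,
          a.2.2.choose_spec.2 _ (app_mem (b : MulAut E) hx)]) }
  have hψ : Function.Surjective ψ := by
    rintro ⟨k, hk⟩
    obtain ⟨a, ha, hak⟩ := hK hk
    exact ⟨⟨a, ha, k, hk, hak⟩, Subtype.ext (huniq (a := a) (⟨a, ha, k, hk, hak⟩ : M).2.2.choose_spec.2 hak)⟩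
  have hcM : ∀ g : G, (MulAut.conjNormal g : MulAut E) ∈ M := fun g => by
    refine ⟨D.f.conj_mem hE g, MulAut.conjNormal (π g), hconj (π g) _ (fun x hx => app_conjNormal _ hx), fun x hx => ?_⟩
    rw [app_conjNormal (π g) (show π x ∈ Ebar from hx), app_conjNormal g hx, map_mul, map_mul, map_inv]
  let R : Subgroup M := ((MulAut.conjNormal : G →* MulAut E).range).subgroupOf M
  have hRp : IsPGroup p R := (hG.to_subgroup ⊤).map
    (MulAut.conjNormal : G →* MulAut E) |> fun h => by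
      rw [← MonoidHom.range_eq_map] at h
      exact h.comap_of_injective M.subtype M.subtype_injective
  let P : Sylow p M :=
    { R with
      isPGroup' := hRp
      is_maximal' := fun {K'} hK' hle => le_antisymm (fun c hc => by
        obtain ⟨g, hg⟩ := D.f.sylow E hE (K'.map M.subtype)
          (fun m hm => by obtain ⟨m, -, rfl⟩ := hm; exact m.2.1) (hK'.map _)
          (fun g a ha => ⟨⟨MulAut.conjNormal g, hcM g⟩, hle ⟨g, rfl⟩,
            aut_ext fun x hx => by rw [ha x hx]; exact app_conjNormal g hx⟩) _ ⟨c, hc, rfl⟩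
        exact ⟨g, aut_ext fun x hx => by rw [app_conjNormal g hx]; exact (hg x hx).symm⟩) hle }
  have himg : R.map ψ = ⊤ := by
    have h1 : (R.map ψ).index ∣ R.index := Subgroup.index_map_dvd R hψ
    obtain ⟨j, hj⟩ := hKp.index (R.map ψ)
    rcases Nat.eq_zero_or_pos j with h0 | h0
    · exact Subgroup.index_eq_one.1 (by rw [hj, h0, pow_zero])
    · exact absurd (((dvd_pow_self p h0.ne').trans (hj ▸ dvd_refl _)).trans h1) P.not_dvd_index
  intro k hk
  obtain ⟨w, ⟨g, hg⟩, hwk⟩ := himg.ge (Subgroup.mem_top (⟨k, hk⟩ : K))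
  refine ⟨π g, fun y hy => ?_⟩
  obtain ⟨x, rfl⟩ := QuotientGroup.mk'_surjective Q y
  rw [show k = w.2.2.choose from (congrArg Subtype.val hwk).symm, w.2.2.choose_spec.2 x hy,
    show (w : MulAut E) = MulAut.conjNormal g from hg.symm, app_conjNormal g hy, map_mul, map_mul, map_inv]

omit hsec in
/-- An element of a subgroup containing the conjugations can be changed modulo `Q` to normalize them. -/
theorem normalise {E : Subgroup G} (hE : E ∈ D.f.ess) [E.Normal] (L : Subgroup (MulAut E)) (hLle : L ≤ D.f.aut E)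
    (hcL : ∀ g : G, (MulAut.conjNormal g : MulAut E) ∈ L) {a : MulAut E} (ha : a ∈ L)
    (hnorm : ∀ g : G, ∃ g' : G, ∀ x ∈ E,
      QuotientGroup.mk' Q (app (a * MulAut.conjNormal g * a⁻¹) x) = QuotientGroup.mk' Q (g' * x * g'⁻¹)) :
    ∃ a' ∈ L, (∀ g : G, ∃ g' : G, ∀ x ∈ E, app a' (g * x * g⁻¹) = g' * app a' x * g'⁻¹) ∧
      ∀ x ∈ E, QuotientGroup.mk' Q (app a' x) = QuotientGroup.mk' Q (app a x) := by
  classical
  set π := QuotientGroup.mk' Q with hπ
  -- the automorphisms that are conjugations modulo `Q`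
  let H : Subgroup (MulAut E) :=
    { carrier := {c | c ∈ L ∧ ∃ g : G, ∀ x ∈ E, π (app c x) = π (g * x * g⁻¹)}
      one_mem' := ⟨one_mem _, 1, fun x _ => by rw [app_one_aut, one_mul, inv_one, mul_one]⟩
      mul_mem' := by
        rintro c c' ⟨hc, g, h⟩ ⟨hc', g', h'⟩
        refine ⟨mul_mem hc hc', g * g', fun x hx => ?_⟩
        rw [app_mul_aut, h _ (app_mem c' hx), map_mul, map_mul, h' x hx]
        simp only [map_mul, map_inv, mul_inv_rev, mul_assoc]
      inv_mem' := by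
        rintro c ⟨hc, g, h⟩
        refine ⟨inv_mem hc, g⁻¹, fun x hx => ?_⟩
        have h1 := h _ (app_mem c⁻¹ hx)
        rw [app_app_inv] at h1
        simp only [map_mul, map_inv, inv_inv] at h1 ⊢
        rw [h1]
        group }
  have hcH : ∀ g : G, (MulAut.conjNormal g : MulAut E) ∈ H := fun g =>
    ⟨hcL g, g, fun x hx => by rw [app_conjNormal g hx]⟩
  have haH : ∀ g : G, a * MulAut.conjNormal g * a⁻¹ ∈ H := fun g =>
    ⟨mul_mem (mul_mem ha (hcL g)) (inv_mem ha), hnorm g⟩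
  have hRp : IsPGroup p (((MulAut.conjNormal : G →* MulAut E).range).subgroupOf H) :=
    (hG.to_subgroup ⊤).map
    (MulAut.conjNormal : G →* MulAut E) |> fun h => by
      rw [← MonoidHom.range_eq_map] at h
      exact h.comap_of_injective H.subtype H.subtype_injective
  let P : Sylow p H :=
    { ((MulAut.conjNormal : G →* MulAut E).range).subgroupOf H with
      isPGroup' := hRp
      is_maximal' := fun {K'} hK' hle => le_antisymm (fun c hc => by
        obtain ⟨g, hg⟩ := D.f.sylow E hE (K'.map H.subtype)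
          (fun m hm => by obtain ⟨m, -, rfl⟩ := hm; exact hLle m.2.1) (hK'.map _)
          (fun g a ha => ⟨⟨MulAut.conjNormal g, hcH g⟩, hle ⟨g, rfl⟩,
            aut_ext fun x hx => by rw [ha x hx]; exact app_conjNormal g hx⟩) _ ⟨c, hc, rfl⟩
        exact ⟨g, aut_ext fun x hx => by rw [app_conjNormal g hx]; exact (hg x hx).symm⟩) hle }
  set T := (((MulAut.conjNormal : G →* MulAut E).range).map (MulAut.conj a).toMonoidHom).subgroupOf H with hT
  have hTp : IsPGroup p T := ((hG.to_subgroup ⊤).map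
    (MulAut.conjNormal : G →* MulAut E) |> fun h => by
      rw [← MonoidHom.range_eq_map] at h
      exact (h.map (MulAut.conj a).toMonoidHom).comap_of_injective H.subtype H.subtype_injective)
  obtain ⟨P', hP'⟩ := hTp.exists_le_sylow
  obtain ⟨w, hw⟩ := MulAction.exists_smul_eq H P' P
  obtain ⟨hwa, g₀, hg₀⟩ := w.2
  set a' : MulAut E := (MulAut.conjNormal g₀)⁻¹ * (w : MulAut E) * a with ha'
  have ha'm : a' ∈ L := mul_mem (mul_mem (inv_mem (hcL g₀)) hwa) ha
  refine ⟨a', ha'm, fun g => ?_, fun x hx => ?_⟩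
  · have h1 : (⟨a * MulAut.conjNormal g * a⁻¹, haH g⟩ : H) ∈ (P' : Subgroup H) :=
      hP' ⟨_, ⟨g, rfl⟩, rfl⟩
    have h2 : w * ⟨a * MulAut.conjNormal g * a⁻¹, haH g⟩ * w⁻¹ ∈ (P : Subgroup H) := by
      rw [← hw, Sylow.coe_subgroup_smul]
      exact ⟨_, h1, rfl⟩
    obtain ⟨g₁, hg₁⟩ := h2
    refine ⟨g₀⁻¹ * g₁ * g₀, fun x hx => ?_⟩
    have h3 : a' * MulAut.conjNormal g * a'⁻¹ = MulAut.conjNormal (g₀⁻¹ * g₁ * g₀) := by
      rw [map_mul, map_mul, map_inv, hg₁]
      show _ = _ * ((w : MulAut E) * (a * MulAut.conjNormal g * a⁻¹) * (w : MulAut E)⁻¹) * _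
      rw [ha']
      group
    have h4 := congrArg (fun c => app c (app a' x)) h3
    simp only [app_mul_aut, app_inv_app] at h4
    rw [app_conjNormal g hx, app_conjNormal _ (app_mem a' hx)] at h4
    exact h4
  · rw [ha', app_mul_aut, app_mul_aut, ← map_inv,
      app_conjNormal g₀⁻¹ (app_mem (w : MulAut E) (app_mem a hx)), map_mul, map_mul, hg₀ _ (app_mem a hx)]
    simp only [map_mul, map_inv, inv_inv]
    group

theorem extendQ (Ebar : Subgroup (G ⧸ Q)) (hE : Ebar ∈ essQ D.f Q) (b : MulAut Ebar) (hb : b ∈ autQ D.f Q Ebar)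
    (hnorm : ∀ g : G ⧸ Q, ∃ g' : G ⧸ Q, ∀ x ∈ Ebar, app b (g * x * g⁻¹) = g' * app b x * g'⁻¹) :
    ∃ χ ∈ autTopQ D.f Q, ∀ x ∈ Ebar, χ x = app b x := by
  haveI := D.f.normal _ hE
  obtain ⟨a, ha, hab⟩ := hb
  obtain ⟨a', ha'm, hn', hmod⟩ := normalise D hG hQ hE (D.f.aut _) le_rfl (fun g => D.f.conj_mem hE g) ha fun g => by
    obtain ⟨g', hg'⟩ := hnorm (QuotientGroup.mk' Q g)
    obtain ⟨g', rfl⟩ := QuotientGroup.mk'_surjective Q g'
    refine ⟨g', fun x hx => ?_⟩
    have hy : app a⁻¹ x ∈ Ebar.comap (QuotientGroup.mk' Q) := app_mem _ hx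
    have h1 := hg' _ (show QuotientGroup.mk' Q (app a⁻¹ x) ∈ Ebar from hy)
    rw [hab _ hy, app_app_inv, ← map_inv, ← map_mul, ← map_mul,
      hab _ (Subgroup.Normal.conj_mem inferInstance _ hy g)] at h1
    rw [app_mul_aut, app_mul_aut, app_conjNormal g hy, h1]
    simp only [map_mul, map_inv]
  obtain ⟨χ, hχ, hχe⟩ := D.f.extend _ hE a' ha'm hn'
  have hχQ : Q.map ((χ : G ≃* G) : G →* G) = Q :=
    Subgroup.eq_of_le_of_card_ge (by rintro _ ⟨x, hx, rfl⟩; exact hQ.top χ hχ x hx)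
      (by rw [Subgroup.card_map_of_injective χ.injective])
  refine ⟨QuotientGroup.congr Q Q χ hχQ, ⟨χ, hχ, fun x => rfl⟩, fun y hy => ?_⟩
  obtain ⟨x, rfl⟩ := QuotientGroup.mk'_surjective Q y
  show QuotientGroup.mk' Q (χ x) = _
  rw [hχe x hy, hab x hy, hmod x hy]

omit hsec in
theorem transportQ (φ : MulAut (G ⧸ Q)) (hφ : φ ∈ autTopQ D.f Q) (Ebar : Subgroup (G ⧸ Q))
    (hE : Ebar ∈ essQ D.f Q) : Ebar.map φ.toMonoidHom = Ebar := by
  obtain ⟨a, ha, hφa⟩ := hφ
  refine Subgroup.eq_of_le_of_card_ge ?_ (by rw [Subgroup.card_map_of_injective φ.injective])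
  rintro _ ⟨y, hy, rfl⟩
  obtain ⟨x, rfl⟩ := QuotientGroup.mk'_surjective Q y
  show φ _ ∈ Ebar
  rw [hφa]
  exact D.fixed a ha _ hE x hy

theorem innerQ (κ : MulAut (G ⧸ Q)) (hκ : κ ∈ autTopQ D.f Q) (k : ℕ) (hk : κ ^ p ^ k = 1) :
    ∃ g : G ⧸ Q, ∀ x, κ x = g * x * g⁻¹ := by
  obtain ⟨a, ha, hκa⟩ := hκ
  haveI : Finite (MulAut G) := inferInstance
  obtain ⟨u, ⟨i, hi⟩, hu⟩ := exists_power (p := p) a k
  have hit : ∀ (n : ℕ) (x : G), (κ ^ n) (QuotientGroup.mk' Q x) = QuotientGroup.mk' Q ((a ^ n) x) := by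
    intro n
    induction n with
    | zero => exact fun x => rfl
    | succ n ih => exact fun x => by rw [pow_succ', pow_succ', MulAut.mul_apply, MulAut.mul_apply, ih, hκa]
  obtain ⟨g, hg⟩ := D.inner (a ^ u) (pow_mem ha u) i hi
  refine ⟨QuotientGroup.mk' Q g, fun y => ?_⟩
  obtain ⟨x, rfl⟩ := QuotientGroup.mk'_surjective Q y
  rw [← pow_of_modEq hk hu, hit, hg, map_mul, map_mul, map_inv]

/-- The family of the quotient. -/
noncomputable def quotPre : Pre p (G ⧸ Q) where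
  ess := essQ D.f Q
  aut Ebar := autQ D.f Q Ebar
  autTop := autTopQ D.f Q
  normal Ebar hE := by
    haveI := D.f.normal _ hE
    rw [← Subgroup.map_comap_eq_self_of_surjective (QuotientGroup.mk'_surjective Q) Ebar]
    exact Subgroup.Normal.map inferInstance _ (QuotientGroup.mk'_surjective Q)
  index Ebar hE := by
    rw [← Subgroup.index_comap_of_surjective Ebar (QuotientGroup.mk'_surjective Q)]
    exact D.f.index _ hE
  cent Ebar hE g hg := by
    obtain ⟨h, rfl⟩ := QuotientGroup.mk'_surjective Q g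
    refine mem_of_trivial D hG hsec hQ hE fun x hx => QuotientGroup.eq.1 (show QuotientGroup.mk' Q x = QuotientGroup.mk' Q (h * x * h⁻¹) from ?_)
    rw [map_mul, map_mul, map_inv, (hg _ hx).eq, mul_inv_cancel_right]
  conj Ebar hE g b hb := by
    haveI := D.f.normal _ hE
    obtain ⟨h, rfl⟩ := QuotientGroup.mk'_surjective Q g
    refine ⟨MulAut.conjNormal h, D.f.conj_mem hE h, fun x hx => ?_⟩
    rw [hb _ hx, app_conjNormal h hx, map_mul, map_mul, map_inv]
  radical := radicalQ D hG hsec hQ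
  sylow := sylowQ D hG hsec hQ
  extend := extendQ D hG hsec hQ
  move φ hφ Ebar hE b hb := by
    obtain ⟨c, hc, hφc⟩ := hφ
    obtain ⟨a, ha, hab⟩ := hb
    obtain ⟨a', ha', haa'⟩ := D.f.move c hc _ hE a ha
    obtain ⟨b', hb'⟩ := exists_image a' (inv_of_com D hQ hE ha')
    refine ⟨b', ⟨a', ha', hb'⟩, fun y hy => ?_⟩
    obtain ⟨x, rfl⟩ := QuotientGroup.mk'_surjective Q y
    rw [hφc, hb' _ (D.fixed c hc _ hE x hy), hab x hy, hφc, haa' x hy]

/-- The frame of the quotient by a largest common invariant subgroup. -/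
noncomputable def quotFrame (hmax : ∀ R, Com D.f R → Q ≤ R → R = Q) : Frame p (G ⧸ Q) where
  ess := essQ D.f Q
  aut Ebar := autQ D.f Q Ebar
  autTop := autTopQ D.f Q
  normal := (quotPre D hG hsec hQ).normal
  index := (quotPre D hG hsec hQ).index
  cent := (quotPre D hG hsec hQ).cent
  conj := (quotPre D hG hsec hQ).conj
  radical := radicalQ D hG hsec hQ
  sylow := sylowQ D hG hsec hQ
  extend := extendQ D hG hsec hQ
  core R hR hE := by
    obtain ⟨E₀, hE₀⟩ := D.exists_mem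
    have hmem : ∀ E ∈ D.f.ess, E.map (QuotientGroup.mk' Q) ∈ essQ D.f Q ∧
        (E.map (QuotientGroup.mk' Q)).comap (QuotientGroup.mk' Q) = E := fun E hE' => by
      have h1 : (E.map (QuotientGroup.mk' Q)).comap (QuotientGroup.mk' Q) = E :=
        Subgroup.comap_map_eq_self (by rw [QuotientGroup.ker_mk']; exact hQ.le E hE')
      exact ⟨show _ ∈ D.f.ess by rw [h1]; exact hE', h1⟩
    set C := R.comap (QuotientGroup.mk' Q) with hC
    have hinv : ∀ E ∈ D.f.ess, C ≤ E ∧ Inv (D.f.aut E) C := fun E hE' => by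
      obtain ⟨h1, h2⟩ := hmem E hE'
      obtain ⟨h3, h4⟩ := hE _ h1
      refine ⟨fun x hx => h2.le (h3 hx), ?_⟩
      suffices ∀ E' : Subgroup G, E' = (E.map (QuotientGroup.mk' Q)).comap (QuotientGroup.mk' Q) →
          Inv (D.f.aut E') C from this E h2.symm
      rintro E' rfl a ha x hx
      obtain ⟨b, hb⟩ := exists_image a (inv_of_com D hQ h1 ha)
      have h5 := h4 b ⟨a, ha, hb⟩ _ hx
      rwa [hb x (h3 hx)] at h5
    have hCn : C.Normal := D.f.normal_of_inv hE₀ (hinv E₀ hE₀).1 (hinv E₀ hE₀).2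
    have hCQ : C = Q := hmax C ⟨hCn, fun E hE' => (hinv E hE').1, fun E hE' => (hinv E hE').2, fun φ hφ x hx => by
      have hQm : Q.map ((φ : G ≃* G) : G →* G) = Q :=
        Subgroup.eq_of_le_of_card_ge (by rintro _ ⟨y, hy, rfl⟩; exact hQ.top φ hφ y hy)
          (by rw [Subgroup.card_map_of_injective φ.injective])
      exact hR (QuotientGroup.congr Q Q φ hQm) ⟨φ, hφ, fun y => rfl⟩ _ hx⟩
      fun x hx => by
        show QuotientGroup.mk' Q x ∈ R
        rw [show QuotientGroup.mk' Q x = 1 from (QuotientGroup.eq_one_iff x).2 hx]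
        exact one_mem _
    rw [← Subgroup.map_comap_eq_self_of_surjective (QuotientGroup.mk'_surjective Q) R, ← hC, hCQ,
      QuotientGroup.map_mk'_self]
  transport φ hφ Ebar hE := by
    rw [transportQ D hG hQ φ hφ Ebar hE]
    exact ⟨hE, (quotPre D hG hsec hQ).move φ hφ Ebar hE⟩
  fixCenter κ hκ k hk z hz := by
    obtain ⟨g, hg⟩ := innerQ D hG hsec hQ κ hκ k hk
    rw [hg, ← (hz g).eq, mul_inv_cancel_right]

/-- The quotient by a common invariant subgroup. -/
noncomputable def quotDuo : Duo p (G ⧸ Q) where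
  f := quotPre D hG hsec hQ
  two Ebar hE := by
    obtain ⟨E', hE', hne, hall⟩ := D.two _ hE
    have h1 : (E'.map (QuotientGroup.mk' Q)).comap (QuotientGroup.mk' Q) = E' :=
      Subgroup.comap_map_eq_self (by rw [QuotientGroup.ker_mk']; exact hQ.le E' hE')
    refine ⟨E'.map (QuotientGroup.mk' Q), show _ ∈ D.f.ess by rw [h1]; exact hE', fun h => hne ?_, fun X hX => ?_⟩
    · rw [← h1, h]
    · rcases hall _ hX with h | h
      · exact Or.inl (Subgroup.comap_injective (QuotientGroup.mk'_surjective Q) h)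
      · exact Or.inr (Subgroup.comap_injective (QuotientGroup.mk'_surjective Q) (h.trans h1.symm))
  exists_mem := by
    obtain ⟨E, hE⟩ := D.exists_mem
    refine ⟨E.map (QuotientGroup.mk' Q), show _ ∈ D.f.ess from ?_⟩
    rw [Subgroup.comap_map_eq_self (by rw [QuotientGroup.ker_mk']; exact hQ.le E hE)]
    exact hE
  fixed φ hφ Ebar hE x hx := (transportQ D hG hQ φ hφ Ebar hE).le ⟨x, hx, rfl⟩
  inner := innerQ D hG hsec hQ

end Cfsg.Agent.RankThreeChar
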