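import Cfsg.Agent.Lib.RankThreeChar.Quot

/-!
A common invariant subgroup with quotient of order `p ^ 3`: the action on its layer is trivial.
-/

set_option autoImplicit false
set_option linter.unusedSectionVars false
set_option linter.style.haveILetI false
set_option maxHeartbeats 1000000

open scoped commutatorElement
open Cfsg.Agent.RankThreeEss Cfsg.Agent.RankThreeNormal

namespace Cfsg.Agent.RankThreeChar

variable {G : Type*} [Group G] {p : ℕ}

/-- The elements whose commutators with `V` lie in `U`. -/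
def cen (U V : Subgroup G) [U.Normal] : Subgroup G :=
  (Subgroup.centralizer ((V.map (QuotientGroup.mk' U)) : Set (G ⧸ U))).comap (QuotientGroup.mk' U)

theorem mem_cen {U V : Subgroup G} [U.Normal] {g : G} : g ∈ cen U V ↔ ∀ v ∈ V, ⁅g, v⁆ ∈ U := by
  simp only [cen, Subgroup.mem_comap, Subgroup.mem_centralizer_iff, SetLike.mem_coe, Subgroup.mem_map,
    QuotientGroup.mk'_apply, forall_exists_index, and_imp, forall_apply_eq_imp_iff₂]
  refine forall₂_congr fun v _ => ?_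
  rw [eq_comm, ← QuotientGroup.eq_one_iff]
  show _ ↔ (QuotientGroup.mk' U) ⁅g, v⁆ = 1
  rw [map_commutatorElement, commutatorElement_eq_one_iff_mul_comm]
  rfl

theorem cen_inv {f : Pre p G} {E U V : Subgroup G} [U.Normal] (hVE : V ≤ E) (hUi : Inv (f.aut E) U)
    (hVi : Inv (f.aut E) V) {x : G} (hx : x ∈ E) (hxc : x ∈ cen U V) {a : MulAut E} (ha : a ∈ f.aut E) :
    app a x ∈ cen U V := by
  refine mem_cen.2 fun v hv => ?_
  have h1 := hVi a⁻¹ (inv_mem ha) v hv
  rw [show v = app a (app a⁻¹ v) from (app_app_inv a v).symm, ← app_commutator a hx (hVE h1)]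
  exact hUi a ha _ (mem_cen.1 hxc _ h1)

theorem comm_mem_left {V : Subgroup G} [hV : V.Normal] (g : G) {v : G} (hv : v ∈ V) : ⁅g, v⁆ ∈ V := by
  rw [commutatorElement_def]
  exact mul_mem (hV.conj_mem v hv g) (inv_mem hv)

theorem comm_swap {U : Subgroup G} {a b : G} (h : ⁅a, b⁆ ∈ U) : ⁅b, a⁆ ∈ U := by
  rw [← commutatorElement_inv]; exact inv_mem h

/-- Commutators act trivially on two consecutive steps of a central chain. -/
theorem comm_act {U W V : Subgroup G} [U.Normal] (h1 : ∀ g : G, ∀ v ∈ V, ⁅g, v⁆ ∈ W)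
    (h2 : ∀ g : G, ∀ w ∈ W, ⁅g, w⁆ ∈ U) (a b : G) {v : G} (hv : v ∈ V) : ⁅⁅a, b⁆, v⁆ ∈ U := by
  set π := QuotientGroup.mk' U
  refine (QuotientGroup.eq_one_iff _).1 (show π _ = 1 from ?_)
  have hz : ∀ g : G, ∀ w ∈ W, Commute (π g) (π w) := fun g w hw => by
    rw [← commutatorElement_eq_one_iff_commute, ← map_commutatorElement]
    exact (QuotientGroup.eq_one_iff _).2 (h2 g w hw)
  have h3 : ∀ g : G, ∀ k : G, ⁅π k, π v⁆ ∈ Subgroup.center (G ⧸ U) := fun _ k => by
    refine Subgroup.mem_center_iff.2 fun r => ?_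
    obtain ⟨r, rfl⟩ := QuotientGroup.mk'_surjective U r
    rw [← map_commutatorElement]
    exact hz r _ (h1 k v hv)
  rw [map_commutatorElement, map_commutatorElement]
  have hk : ∀ k : G, π k * π v * (π k)⁻¹ = ⁅π k, π v⁆ * π v := fun k => by rw [commutatorElement_def]; group
  rw [commutatorElement_eq_one_iff_commute]
  set A := π a
  set B := π b
  set v' := π v
  have hA := hk a
  have hB := hk b
  set α := ⁅A, v'⁆
  set β := ⁅B, v'⁆
  have cα : ∀ r, α * r = r * α := fun r => (Subgroup.mem_center_iff.1 (h3 a a) r).symm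
  have cβ : ∀ r, β * r = r * β := fun r => (Subgroup.mem_center_iff.1 (h3 b b) r).symm
  have hAi : A⁻¹ * v' * A = α⁻¹ * v' := by
    have e : A * (α⁻¹ * v') * A⁻¹ = v' := by
      rw [show A * (α⁻¹ * v') * A⁻¹ = (A * α⁻¹ * A⁻¹) * (A * v' * A⁻¹) by group, hA,
        ((show Commute α A from cα A).inv_left).eq.symm, mul_inv_cancel_right, inv_mul_cancel_left]
    conv_lhs => rw [← e]
    group
  have hBi : B⁻¹ * v' * B = β⁻¹ * v' := by
    have e : B * (β⁻¹ * v') * B⁻¹ = v' := by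
      rw [show B * (β⁻¹ * v') * B⁻¹ = (B * β⁻¹ * B⁻¹) * (B * v' * B⁻¹) by group, hB,
        ((show Commute β B from cβ B).inv_left).eq.symm, mul_inv_cancel_right, inv_mul_cancel_left]
    conv_lhs => rw [← e]
    group
  refine mul_inv_eq_iff_eq_mul.1 ?_
  calc ⁅A, B⁆ * v' * ⁅A, B⁆⁻¹ = A * (B * (A⁻¹ * (B⁻¹ * v' * B) * A) * B⁻¹) * A⁻¹ := by
        rw [commutatorElement_def]; group
    _ = A * (B * ((A⁻¹ * β⁻¹ * A) * (A⁻¹ * v' * A)) * B⁻¹) * A⁻¹ := by rw [hBi]; group
    _ = A * (B * (β⁻¹ * (α⁻¹ * v')) * B⁻¹) * A⁻¹ := by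
        rw [hAi, ((show Commute β A⁻¹ from cβ A⁻¹).inv_left).eq.symm, inv_mul_cancel_right]
    _ = A * ((B * β⁻¹ * B⁻¹) * (B * α⁻¹ * B⁻¹) * (B * v' * B⁻¹)) * A⁻¹ := by group
    _ = A * (β⁻¹ * α⁻¹ * (β * v')) * A⁻¹ := by
        rw [hB, ((show Commute β B from cβ B).inv_left).eq.symm, mul_inv_cancel_right,
          ((show Commute α B from cα B).inv_left).eq.symm, mul_inv_cancel_right]
    _ = A * (α⁻¹ * v') * A⁻¹ := by
        rw [((show Commute β α⁻¹ from cβ α⁻¹).inv_left).eq, show α⁻¹ * β⁻¹ * (β * v') = α⁻¹ * v' by group]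
    _ = v' := by
        rw [show A * (α⁻¹ * v') * A⁻¹ = (A * α⁻¹ * A⁻¹) * (A * v' * A⁻¹) by group, hA,
          ((show Commute α A from cα A).inv_left).eq.symm, mul_inv_cancel_right, inv_mul_cancel_left]

variable [hp : Fact p.Prime] [Finite G]

/-- A normal subgroup is not reached from a smaller one by commutators. -/
theorem descend (hG : IsPGroup p G) {U V : Subgroup G} [U.Normal] [V.Normal]
    (h : V ≤ U ⊔ ⁅(⊤ : Subgroup G), V⁆) : V ≤ U := by
  haveI := hG.isNilpotent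
  have key : ∀ n, V.map (QuotientGroup.mk' U) ≤ (⊤ : Subgroup (G ⧸ U)).lowerCentralSeries n := by
    intro n
    induction n with
    | zero => simp
    | succ n ih =>
      refine (Subgroup.map_mono h).trans ?_
      rw [Subgroup.map_sup, sup_le_iff]
      constructor
      · rintro _ ⟨u, hu, rfl⟩
        rw [show QuotientGroup.mk' U u = 1 from (QuotientGroup.eq_one_iff _).2 hu]
        exact one_mem _
      · rw [Subgroup.map_commutator, Subgroup.commutator_comm]
        exact Subgroup.commutator_mono ih le_top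
  haveI : Group.IsNilpotent (G ⧸ U) := inferInstance
  obtain ⟨n, hn⟩ := Subgroup.nilpotent_iff_lowerCentralSeries.1 (inferInstance : Group.IsNilpotent (G ⧸ U))
  intro v hv
  have h1 := key n ⟨v, hv, rfl⟩
  rw [hn, Subgroup.mem_bot] at h1
  exact (QuotientGroup.eq_one_iff _).1 h1

/-- An elementary abelian section has order at most `p ^ 3`. -/
theorem section_le (hsec : Cfsg.SectionalPRankLE p 3 G) {A N : Subgroup G} [N.Normal] (hNA : N ≤ A)
    (hc : ∀ a ∈ A, ∀ b ∈ A, ⁅a, b⁆ ∈ N) (he : ∀ a ∈ A, a ^ p ∈ N) : Nat.card A ≤ p ^ 3 * Nat.card N := by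
  have h := hsec A (N.subgroupOf A) ⊤ ⟨⟨fun a b => Subtype.ext ?_⟩⟩ fun a _ => ?_
  · rw [Subgroup.card_top, ← Subgroup.index_eq_card] at h
    have h1 := (N.subgroupOf A).card_mul_index
    rw [Nat.card_congr (Subgroup.subgroupOfEquivOfLe hNA).toEquiv] at h1
    rw [← h1, mul_comm (p ^ 3)]
    exact Nat.mul_le_mul_left _ h
  · obtain ⟨a, ha⟩ := QuotientGroup.mk'_surjective (N.subgroupOf A) (a : A ⧸ N.subgroupOf A)
    obtain ⟨b, hb⟩ := QuotientGroup.mk'_surjective (N.subgroupOf A) (b : A ⧸ N.subgroupOf A)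
    rw [Subgroup.coe_mul, Subgroup.coe_mul, ← ha, ← hb]
    refine commutatorElement_eq_one_iff_mul_comm.1 ?_
    rw [← map_commutatorElement]
    exact (QuotientGroup.eq_one_iff _).2 (hc _ a.2 _ b.2)
  · obtain ⟨a, rfl⟩ := QuotientGroup.mk'_surjective (N.subgroupOf A) a
    rw [← map_pow]
    refine (QuotientGroup.eq_one_iff _).2 (show ((a ^ p : A) : G) ∈ N from ?_)
    rw [SubmonoidClass.coe_pow]
    exact he _ a.2

variable (D : Duo p G) (hG : IsPGroup p G) (hsec : Cfsg.SectionalPRankLE p 3 G) {Q : Subgroup G} [Q.Normal]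
  (hQ : Com D.f Q) (hc : Nat.card (G ⧸ Q) = p ^ 3)
include hG hsec hQ hc

theorem card_member {E : Subgroup G} (hE : E ∈ D.f.ess) : Nat.card E = p ^ 2 * Nat.card Q := by
  have e := E.card_mul_index
  rw [D.f.index E hE, ← Q.card_mul_index, Subgroup.index_eq_card, hc, pow_succ, ← mul_assoc, mul_comm (Nat.card Q)] at e
  exact Nat.eq_of_mul_eq_mul_right hp.out.pos e

theorem phi_member {E : Subgroup G} (hE : E ∈ D.f.ess) : phi E ≤ Q := by
  have h := big_quot D hG hsec hQ hE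
  rw [card_member D hG hsec hQ hc hE, pow_two, mul_assoc] at h
  intro x hx
  by_contra hxQ
  have h2 := step hG (le_sup_left : Q ≤ Q ⊔ phi E) (Subgroup.mem_sup_right hx) hxQ
  exact absurd (Nat.lt_of_mul_lt_mul_left h) (not_lt.2 h2)

/-- An invariant subgroup between `Q` and a member is one of them. -/
theorem dich {E X : Subgroup G} (hE : E ∈ D.f.ess) (hQX : Q ≤ X) (hXE : X ≤ E) (hXi : Inv (D.f.aut E) X) {x : G}
    (hx : x ∈ X) (hxQ : x ∉ Q) : X = E := by
  by_contra hne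
  obtain ⟨e, he, heX⟩ := exists_not_mem (N := X) (B := E)
    (lt_of_le_of_ne (Subgroup.card_le_of_le hXE) fun h => hne (Subgroup.eq_of_le_of_card_ge hXE h.ge))
  have h1 := step hG hQX hx hxQ
  have h2 := step hG hXE he heX
  rw [card_member D hG hsec hQ hc hE, pow_two, mul_assoc] at h2
  have hT : Q ⊔ phi E = Q := sup_eq_left.2 (phi_member D hG hsec hQ hc hE)
  refine no_line D hG hsec hQ hE (hT.le.trans hQX) hXE hXi ?_ ?_
  · rw [hT]; exact Nat.le_of_mul_le_mul_left h2 hp.out.pos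
  · rw [card_member D hG hsec hQ hc hE, pow_two, mul_assoc]
    exact Nat.mul_le_mul_left _ h1

theorem exists_comm {E : Subgroup G} (hE : E ∈ D.f.ess) : ∃ g : G, ∃ e ∈ E, ⁅g, e⁆ ∉ Q ∧ ⁅g, e⁆ ∈ E := by
  obtain ⟨g, hg⟩ : ∃ g : G, g ∉ E := by
    by_contra! h
    have hi := D.f.index E hE
    rw [show E = ⊤ from eq_top_iff.2 fun g _ => h g, Subgroup.index_top] at hi
    exact hp.out.one_lt.ne hi
  by_contra! hno
  refine hg (mem_of_trivial D hG hsec hQ hE fun x hx => ?_)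
  haveI := D.f.normal E hE
  by_contra hxQ
  refine hno g x hx (fun h => hxQ ?_) (comm_mem_left g hx)
  rw [show x⁻¹ * (g * x * g⁻¹) = x⁻¹ * ⁅g, x⁆ * (x⁻¹)⁻¹ by simp only [commutatorElement_def]; group]
  exact Subgroup.Normal.conj_mem inferInstance _ h _

/-- The layer of `Q` is central. -/
theorem all_cV (g₀ : G) : g₀ ∈ cV Q := by
  obtain ⟨A, hA⟩ := D.exists_mem
  obtain ⟨B, hB, hne, hall⟩ := D.two A hA
  haveI := D.f.normal A hA
  haveI := D.f.normal B hB
  -- if a member meets the centralizer outside `Q` it lies in it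
  suffices hmeet : ∃ w ∈ A ⊓ B, w ∈ cV Q ∧ w ∉ Q by
    obtain ⟨w, ⟨hwA, hwB⟩, hwC, hwQ⟩ := hmeet
    have key : ∀ E ∈ D.f.ess, w ∈ E → E ≤ cV Q := fun E hE hwE => by
      haveI := D.f.normal E hE
      have h := dich D hG hsec hQ hc hE (X := E ⊓ cV Q) (le_inf (hQ.le E hE) (le_cV hG Q)) inf_le_left
        (fun a ha r hr => ⟨app_mem a hr.1, cV_inv (hQ.le E hE) (hQ.inv E hE) hr.1 hr.2 ha⟩) ⟨hwE, hwC⟩ hwQ
      exact h.ge.trans inf_le_right
    obtain ⟨r, hr, hrI⟩ := inf_lt (D.f.index A hA) (D.f.index B hB) hne.symm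
    exact (eq_top_of_index (D.f.index B hB) (key B hB hwB) (key A hA hwA hr) fun h => hrI ⟨hr, h⟩).ge
      (Subgroup.mem_top g₀)
  by_contra hno
  push Not at hno
  have hCQ : cV Q ≤ Q := fun g hg => by
    by_contra hgQ
    haveI : ((cV Q).map (QuotientGroup.mk' Q)).Normal :=
      Subgroup.Normal.map inferInstance _ (QuotientGroup.mk'_surjective Q)
    have hb : (cV Q).map (QuotientGroup.mk' Q) ≠ ⊥ := fun h => hgQ ((QuotientGroup.eq_one_iff g).1
      (Subgroup.mem_bot.1 (h ▸ Subgroup.mem_map_of_mem (QuotientGroup.mk' Q) hg)))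
    haveI hne' : Nontrivial ((cV Q).map (QuotientGroup.mk' Q)) := (Subgroup.nontrivial_iff_ne_bot _).2 hb
    obtain ⟨k, hk⟩ := IsPGroup.iff_card.1 ((hG.to_quotient Q).to_subgroup ((cV Q).map (QuotientGroup.mk' Q)))
    have hk0 : k ≠ 0 := fun h => by
      have h1 := Finite.one_lt_card (α := (cV Q).map (QuotientGroup.mk' Q))
      rw [hk, h, pow_zero] at h1
      exact lt_irrefl 1 h1
    letI : MulAction (ConjAct (G ⧸ Q)) ((cV Q).map (QuotientGroup.mk' Q)) := inferInstance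
    have hG' : IsPGroup p (ConjAct (G ⧸ Q)) := hG.to_quotient Q
    obtain ⟨w, hw, hw1⟩ := hG'.exists_fixed_point_of_prime_dvd_card_of_fixed_point _ (hk ▸ dvd_pow_self p hk0)
      (a := 1) (fun g => smul_one g)
    obtain ⟨w₀, hw₀, hw₀e⟩ := w.2
    have hcent : ∀ E ∈ D.f.ess, w₀ ∈ E := fun E hE => by
      refine mem_of_trivial D hG hsec hQ hE fun x _ => ?_
      refine QuotientGroup.eq.1 (show QuotientGroup.mk' Q x = QuotientGroup.mk' Q (w₀ * x * w₀⁻¹) from ?_)
      have h := congrArg Subtype.val (hw (ConjAct.toConjAct (QuotientGroup.mk' Q x)))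
      change QuotientGroup.mk' Q x * (w : G ⧸ Q) * (QuotientGroup.mk' Q x)⁻¹ = w at h
      rw [← hw₀e, mul_inv_eq_iff_eq_mul] at h
      rw [map_mul, map_mul, map_inv, ← h, mul_inv_cancel_right]
    refine hno w₀ ⟨hcent A hA, hcent B hB⟩ hw₀ |> fun h => hw1 (Subtype.ext ?_)
    rw [← hw₀e]
    exact ((QuotientGroup.eq_one_iff w₀).2 h).symm
  -- the action is faithful: the chain
  set Φ := phi Q with hΦ
  have hΦQ : Φ ≤ Q := phi_le Q
  set H := Φ ⊔ ⁅(⊤ : Subgroup G), Q⁆ with hH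
  set P := Φ ⊔ ⁅(⊤ : Subgroup G), H⁆ with hP
  haveI hHn : H.Normal := inferInstance
  haveI hPn : P.Normal := inferInstance
  have hHQ : H ≤ Q := sup_le hΦQ (Subgroup.commutator_le.2 fun g _ v hv => comm_mem_left g hv)
  have hPH : P ≤ H := sup_le le_sup_left (Subgroup.commutator_le.2 fun g _ v hv => comm_mem_left g hv)
  have hΦP : Φ ≤ P := le_sup_left
  have hQH : ∀ g : G, ∀ v ∈ Q, ⁅g, v⁆ ∈ H := fun g v hv =>
    Subgroup.mem_sup_right (Subgroup.commutator_mem_commutator (Subgroup.mem_top g) hv)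
  have hHP : ∀ g : G, ∀ v ∈ H, ⁅g, v⁆ ∈ P := fun g v hv =>
    Subgroup.mem_sup_right (Subgroup.commutator_mem_commutator (Subgroup.mem_top g) hv)
  obtain ⟨g₁, a₁, ha₁, hc₁, -⟩ := exists_comm D hG hsec hQ hc hA
  have hP0 : ¬ P ≤ Φ := fun h => hc₁ (hCQ (mem_cV.2 fun v hv =>
    comm_act hQH (fun g w hw => h (hHP g w hw)) g₁ a₁ hv))
  have hH0 : ¬ H ≤ Φ := fun h => hP0 (hPH.trans h)
  have hQH0 : ¬ Q ≤ H := fun h => hH0 (hHQ.trans (descend hG h))
  have hHP0 : ¬ H ≤ P := fun h => hP0 (hPH.trans (descend hG h))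
  obtain ⟨v₃, hv₃, hv₃H⟩ := SetLike.not_le_iff_exists.1 hQH0
  obtain ⟨v₂, hv₂, hv₂P⟩ := SetLike.not_le_iff_exists.1 hHP0
  obtain ⟨v₁, hv₁, hv₁Φ⟩ := SetLike.not_le_iff_exists.1 hP0
  have s1 := step hG hΦP hv₁ hv₁Φ
  have s2 := step hG hPH hv₂ hv₂P
  have s3 := step hG hHQ hv₃ hv₃H
  have hQ3 : Nat.card Q ≤ p * (p * (p * Nat.card Φ)) := (card_le_phi hG hsec Q).trans_eq (by ring)
  have hPc : Nat.card P ≤ p * Nat.card Φ := Nat.le_of_mul_le_mul_left (Nat.le_of_mul_le_mul_left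
    ((Nat.mul_le_mul_left p s2).trans (s3.trans hQ3)) hp.out.pos) hp.out.pos
  have hHc : Nat.card H ≤ p * Nat.card P :=
    (Nat.le_of_mul_le_mul_left (s3.trans hQ3) hp.out.pos).trans (Nat.mul_le_mul_left p s1)
  have hQc : Nat.card Q ≤ p * Nat.card H :=
    hQ3.trans (Nat.mul_le_mul_left p ((Nat.mul_le_mul_left p s1).trans s2))
  have hPΦ : ∀ g : G, ∀ v ∈ P, ⁅g, v⁆ ∈ Φ := fun g v hv => commutator_mem_of_step hG hΦP hPc hv g
  have hbig : ∀ N : Subgroup G, N.Normal → Φ ≤ N → N ≤ Q → ¬ N ≤ H → Q ≤ N := by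
    intro N hN hΦN hNQ hNH
    haveI := hN
    obtain ⟨n, hn, hnH⟩ := SetLike.not_le_iff_exists.1 hNH
    have hsup : N ⊔ H = Q := Subgroup.eq_of_le_of_card_ge (sup_le hNQ hHQ)
      (hQc.trans (step hG le_sup_right (Subgroup.mem_sup_left hn) hnH))
    have h1 : H ≤ (N ⊓ H) ⊔ P := by
      refine sup_le (hΦP.trans le_sup_right) (Subgroup.commutator_le.2 fun g _ v hv => ?_)
      obtain ⟨r, hr, s, hs, rfl⟩ := Subgroup.mem_sup_of_normal_left.1 (hsup.ge hv)
      rw [show ⁅g, r * s⁆ = ⁅g, r⁆ * (r * ⁅g, s⁆ * r⁻¹) by simp only [commutatorElement_def]; group]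
      exact Subgroup.mul_mem_sup ⟨comm_mem_left g hr, hQH g r (hNQ hr)⟩
        (hPn.conj_mem _ (hHP g s hs) r)
    have h2 : P ≤ N := by
      refine sup_le hΦN (Subgroup.commutator_le.2 fun g _ v hv => ?_)
      obtain ⟨r, hr, s, hs, rfl⟩ := Subgroup.mem_sup_of_normal_left.1 (h1 hv)
      rw [show ⁅g, r * s⁆ = ⁅g, r⁆ * (r * ⁅g, s⁆ * r⁻¹) by simp only [commutatorElement_def]; group]
      exact mul_mem (comm_mem_left g hr.1) (hN.conj_mem _ (hΦN (hPΦ g s hs)) r)
    exact hsup.ge.trans (sup_le le_rfl (h1.trans (sup_le inf_le_left h2)))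
  -- a member acting nontrivially on `H`
  obtain ⟨E, hE, hEH⟩ : ∃ E ∈ D.f.ess, ¬ E ≤ cen Φ H := by
    by_contra! h
    obtain ⟨r, hr, hrI⟩ := inf_lt (D.f.index A hA) (D.f.index B hB) hne.symm
    have htop := eq_top_of_index (D.f.index B hB) (h B hB) (h A hA hr) fun h => hrI ⟨hr, h⟩
    exact hP0 (sup_le le_rfl (Subgroup.commutator_le.2 fun g _ v hv =>
      mem_cen.1 (htop.ge (Subgroup.mem_top g)) v hv))
  haveI := D.f.normal E hE
  have hQE := hQ.le E hE
  have hΦi : Inv (D.f.aut E) Φ := fun a ha => phi_inv hQE (hQ.inv E hE a ha)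
  -- the fixed points are `P`
  set F := Q ⊓ cen Φ E with hF
  have hFi : Inv (D.f.aut E) F := fun a ha v hv => ⟨hQ.inv E hE a ha v hv.1,
    cen_inv le_rfl hΦi (fun b _ r hr => app_mem b hr) (hQE hv.1) hv.2 ha⟩
  have hFn : F.Normal := D.f.normal_of_inv hE (inf_le_left.trans hQE) hFi
  have hPF : P ≤ F := fun v hv => ⟨hHQ (hPH hv), mem_cen.2 fun e _ => comm_swap (hPΦ e v hv)⟩
  have hFH : F ≤ H := by
    by_contra hFH
    have h := hbig F hFn (hΦP.trans hPF) inf_le_left hFH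
    exact hEH fun e he => mem_cen.2 fun v hv => comm_swap (mem_cen.1 (h (hHQ hv)).2 e he)
  have hFP : F ≤ P := by
    intro v hv
    by_contra hvP
    have h := Subgroup.eq_of_le_of_card_ge hFH (hHc.trans (step hG hPF hv hvP))
    exact hEH fun e he => mem_cen.2 fun w hw => comm_swap (mem_cen.1 (h.ge hw).2 e he)
  have hPi : Inv (D.f.aut E) P := fun a ha v hv => hFP (hFi a ha v (hPF hv))
  -- the member centralizes `Q` modulo `P`
  obtain ⟨g₂, a₂, ha₂, hzQ, hzE⟩ := exists_comm D hG hsec hQ hc hE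
  set z := ⁅g₂, a₂⁆
  have hEP : E ≤ cen P Q := by
    have h := dich D hG hsec hQ hc hE (X := E ⊓ cen P Q)
      (le_inf hQE fun v hv => mem_cen.2 fun w hw => hΦP (comm_mem_phi hG hv hw)) inf_le_left
      (fun a ha r hr => ⟨app_mem a hr.1, cen_inv hQE hPi (hQ.inv E hE) hr.1 hr.2 ha⟩)
      ⟨hzE, mem_cen.2 fun v hv => comm_act hQH hHP g₂ a₂ hv⟩ hzQ
    exact h.ge.trans inf_le_right
  -- the member is abelian modulo `P`
  have hEE : ∀ a ∈ E, ∀ b ∈ E, ⁅a, b⁆ ∈ Q := fun a ha b hb =>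
    phi_member D hG hsec hQ hc hE (comm_mem_phi hG ha hb)
  obtain ⟨a, ha, haZ⟩ : ∃ a ∈ E, a ∉ Q ⊔ Subgroup.zpowers z := by
    refine exists_not_mem ((card_le_mul_of_pow (p := p) (N := Q) (x := z)
      (phi_member D hG hsec hQ hc hE (pow_mem_phi hG hzE))).trans_lt ?_)
    rw [card_member D hG hsec hQ hc hE, pow_two, mul_assoc]
    exact lt_mul_of_one_lt_left (Nat.mul_pos hp.out.pos Nat.card_pos) hp.out.one_lt
  have hgenE : Q ⊔ Subgroup.zpowers z ⊔ Subgroup.zpowers a = E := by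
    refine Subgroup.eq_of_le_of_card_ge (sup_le (sup_le hQE (Subgroup.zpowers_le.2 hzE)) (Subgroup.zpowers_le.2 ha)) ?_
    rw [card_member D hG hsec hQ hc hE, pow_two, mul_assoc]
    exact (Nat.mul_le_mul_left _ (step hG le_sup_left (Subgroup.mem_sup_right (Subgroup.mem_zpowers z)) hzQ)).trans
      (step hG le_sup_left (Subgroup.mem_sup_right (Subgroup.mem_zpowers a)) haZ)
  set r := QuotientGroup.mk' P with hr
  set Z₀ := Subgroup.zpowers ⁅r a, r z⁆
  have hcq : ∀ e ∈ E, ∀ w ∈ Q, Commute (r e) (r w) := fun e he w hw => by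
    rw [← commutatorElement_eq_one_iff_commute, ← map_commutatorElement]
    exact (QuotientGroup.eq_one_iff _).2 (mem_cen.1 (hEP he) w hw)
  have hS : ∀ f ∈ E, ⁅r a, r f⁆ ∈ Z₀ → ⁅r z, r f⁆ ∈ Z₀ → ∀ e ∈ E, ⁅r e, r f⁆ ∈ Z₀ := by
    intro f hf h1 h2
    let S : Subgroup G :=
      { carrier := {e | e ∈ E ∧ ⁅r e, r f⁆ ∈ Z₀}
        one_mem' := ⟨one_mem _, by rw [map_one, commutatorElement_one_left]; exact one_mem _⟩
        mul_mem' := fun {x y} hx hy => ⟨mul_mem hx.1 hy.1, by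
          have hcy : Commute (r x) ⁅r y, r f⁆ := by
            rw [← map_commutatorElement]; exact hcq x hx.1 _ (hEE y hy.1 f hf)
          rw [map_mul, show ⁅r x * r y, r f⁆ = r x * ⁅r y, r f⁆ * (r x)⁻¹ * ⁅r x, r f⁆ by
            simp only [commutatorElement_def]; group, hcy.eq, mul_inv_cancel_right]
          exact mul_mem hy.2 hx.2⟩
        inv_mem' := fun {x} hx => ⟨inv_mem hx.1, by
          have hcx : Commute (r x)⁻¹ ⁅r f, r x⁆ := by
            rw [← map_inv, ← map_commutatorElement]; exact hcq _ (inv_mem hx.1) _ (hEE f hf x hx.1)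
          rw [map_inv, show ⁅(r x)⁻¹, r f⁆ = (r x)⁻¹ * ⁅r f, r x⁆ * (r x)⁻¹⁻¹ by
            simp only [commutatorElement_def]; group, hcx.eq, mul_inv_cancel_right, ← commutatorElement_inv]
          exact inv_mem hx.2⟩ }
    intro e he
    refine ((show E ≤ S from hgenE ▸ sup_le (sup_le (fun w hw => ⟨hQE hw, ?_⟩)
      (Subgroup.zpowers_le.2 ⟨hzE, h2⟩)) (Subgroup.zpowers_le.2 ⟨ha, h1⟩)) he).2
    rw [commutatorElement_eq_one_iff_commute.2 (hcq f hf w hw).symm]
    exact one_mem _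
  have hSa := hS a ha (by rw [commutatorElement_self]; exact one_mem _)
    (by rw [← commutatorElement_inv]; exact inv_mem (Subgroup.mem_zpowers _))
  have hSz := hS z hzE (Subgroup.mem_zpowers _) (by rw [commutatorElement_self]; exact one_mem _)
  set c := ⁅a, z⁆
  set K := P ⊔ ⁅E, E⁆ with hK
  have hKc : K ≤ P ⊔ Subgroup.zpowers c := by
    refine sup_le le_sup_left (Subgroup.commutator_le.2 fun e he f hf => ?_)
    obtain ⟨k, hk⟩ := Subgroup.mem_zpowers_iff.1 (hS f hf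
      (by rw [← commutatorElement_inv]; exact inv_mem (hSa f hf))
      (by rw [← commutatorElement_inv]; exact inv_mem (hSz f hf)) e he)
    rw [← map_commutatorElement, ← map_commutatorElement, ← map_zpow] at hk
    have h1 := QuotientGroup.eq.1 hk
    rw [sup_comm]
    have h2 := Subgroup.mul_mem_sup (zpow_mem (Subgroup.mem_zpowers c) k) h1
    rwa [mul_inv_cancel_left] at h2
  have hcQ : c ∈ Q := hEE a ha z hzE
  have hKcard : Nat.card K ≤ p * Nat.card P :=
    (Subgroup.card_le_of_le hKc).trans (card_le_mul_of_pow (hΦP (pow_mem_phi hG hcQ)))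
  have hKQ : K ≤ Q := sup_le (hPH.trans hHQ) (Subgroup.commutator_le.2 hEE)
  have hKi : Inv (D.f.aut E) K := fun b hb x hx => by
    suffices x ∈ E ∧ app b x ∈ K from this.2
    let S : Subgroup G :=
      { carrier := {x | x ∈ E ∧ app b x ∈ K}
        one_mem' := ⟨one_mem _, by rw [app_one]; exact one_mem _⟩
        mul_mem' := fun {x y} hx hy => ⟨mul_mem hx.1 hy.1, by rw [app_mul b hx.1 hy.1]; exact mul_mem hx.2 hy.2⟩
        inv_mem' := fun {x} hx => ⟨inv_mem hx.1, by rw [app_inv b hx.1]; exact inv_mem hx.2⟩ }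
    exact (sup_le (fun v hv => ⟨hQE (hHQ (hPH hv)), Subgroup.mem_sup_left (hPi b hb v hv)⟩)
      (Subgroup.commutator_le.2 fun e he f hf => ⟨hQE (hEE e he f hf), by
        rw [app_commutator b he hf]
        exact Subgroup.mem_sup_right (Subgroup.commutator_mem_commutator (app_mem b he) (app_mem b hf))⟩) : K ≤ S) hx
  have hKn : K.Normal := D.f.normal_of_inv hE (hKQ.trans hQE) hKi
  have hKH : K ≤ H := by
    by_contra hKH
    have h := (Nat.mul_le_mul_left p s2).trans (s3.trans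
      ((Subgroup.card_le_of_le (hbig K hKn (hΦP.trans le_sup_left) hKQ hKH)).trans hKcard))
    exact absurd (Nat.le_of_mul_le_mul_left h hp.out.pos) (not_le.2 (lt_mul_self P))
  have hKP : K ≤ P := by
    intro v hv
    by_contra hvP
    have hKeq := Subgroup.eq_of_le_of_card_ge hKH (hHc.trans (step hG le_sup_left hv hvP))
    have h := dich D hG hsec hQ hc hE (X := E ⊓ cen Φ K)
      (le_inf hQE fun w hw => mem_cen.2 fun k hk => comm_mem_phi hG hw (hKQ hk)) inf_le_left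
      (fun b hb e he => ⟨app_mem b he.1, cen_inv (hKQ.trans hQE) hΦi hKi he.1 he.2 hb⟩)
      ⟨hzE, mem_cen.2 fun k hk => comm_act hHP hPΦ g₂ a₂ (hKH hk)⟩ hzQ
    exact hEH fun e he => mem_cen.2 fun w hw => mem_cen.1 (h.ge he).2 w (hKeq.ge hw)
  have hcP : ∀ e ∈ E, ∀ f ∈ E, ⁅e, f⁆ ∈ P := fun e he f hf =>
    hKP (Subgroup.mem_sup_right (Subgroup.commutator_mem_commutator he hf))
  -- and of exponent `p`
  set q := QuotientGroup.mk' Φ
  have hpow : ∀ e ∈ E, e ^ p ∈ P := fun f hf => hFP ⟨phi_member D hG hsec hQ hc hE (pow_mem_phi hG hf),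
    mem_cen.2 fun e he => comm_swap ((QuotientGroup.eq_one_iff _).1 (show q _ = 1 from by
      have hcom : Commute ⁅q e, q f⁆ (q f) := by
        rw [← map_commutatorElement, ← commutatorElement_eq_one_iff_commute, ← map_commutatorElement]
        exact (QuotientGroup.eq_one_iff _).2 (comm_swap (hPΦ f _ (hcP e he f hf)))
      rw [map_commutatorElement, map_pow, commutatorElement_eq_one_iff_commute]
      have h1 : q e * q f ^ p * (q e)⁻¹ = q f ^ p := by
        rw [← conj_pow, show q e * q f * (q e)⁻¹ = ⁅q e, q f⁆ * q f by rw [commutatorElement_def]; group,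
          hcom.mul_pow, ← map_commutatorElement, ← map_pow q ⁅e, f⁆,
          show q (⁅e, f⁆ ^ p) = 1 from (QuotientGroup.eq_one_iff _).2 (pow_mem_phi hG (hEE e he f hf)), one_mul]
      exact mul_inv_eq_iff_eq_mul.1 h1))⟩
  have h := section_le hsec ((hPH.trans hHQ).trans hQE) hcP hpow
  rw [card_member D hG hsec hQ hc hE, show p ^ 3 * Nat.card P = p ^ 2 * (p * Nat.card P) by ring] at h
  have h2 := ((Nat.mul_le_mul_left p s2).trans s3).trans (Nat.le_of_mul_le_mul_left h (pow_pos hp.out.pos 2))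
  exact absurd (Nat.le_of_mul_le_mul_left h2 hp.out.pos) (not_le.2 (lt_mul_self P))

end Cfsg.Agent.RankThreeChar
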