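import Cfsg.Agent.Lib.RankThreeChar.Meet
import Cfsg.Agent.Lib.RankThreeNormal.Transv
import Cfsg.Agent.Lib.RankThreeNormal.Model

/-!
The symplectic shape with trivial common subgroup: the abelian member and the invariant subgroups.
-/

set_option autoImplicit false
set_option linter.unusedSectionVars false
set_option linter.style.haveILetI false
set_option maxHeartbeats 1000000

open scoped commutatorElement
open Cfsg.Agent.RankThreeEss Cfsg.Agent.RankThreeNormal

namespace Cfsg.Agent.RankThreeChar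

variable {G : Type*} [Group G] {p : ℕ}

/-- What is used about the symplectic shape. -/
structure SymData (p : ℕ) (f : Pre p G) (A B : Subgroup G) (z y t x : G) : Prop where
  hA : A ∈ f.ess
  hB : B ∈ f.ess
  ne : A ≠ B
  zA : z ∈ A
  yA : y ∈ A
  tA : t ∈ A
  yB : y ∈ B
  tB : t ∈ B
  cardG : Nat.card G = p ^ 4
  cardA : Nat.card A = p ^ 3
  comm : ∀ a ∈ A, ∀ b ∈ A, Commute a b
  exp : ∀ a ∈ A, a ^ p = 1
  gen : Subgroup.closure ({z, y, t} : Set G) = A
  rz : x * z * x⁻¹ = z * y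
  ry : x * y * x⁻¹ = y * t
  rt : x * t * x⁻¹ = t
  minimal : ∀ C : Subgroup G, C.Normal → C ≠ ⊥ → t ∈ C
  maxA : ∀ X : Subgroup G, X ≤ A → Inv (f.aut A) X → t ∈ X → X = A
  maxB : ∀ X : Subgroup G, X ≤ B → Inv (f.aut B) X → y ∈ X → X = B
  nonab : ∃ a ∈ B, ∃ b ∈ B, ¬ Commute a b

theorem zpowers_le_norm {H : Subgroup G} {g : G} (h : ∀ a ∈ H, Commute g a) :
    Subgroup.zpowers g ≤ Subgroup.normalizer (H : Set G) := by
  rw [Subgroup.zpowers_le]
  refine Subgroup.mem_normalizer_iff.2 fun a => ⟨fun ha => ?_, fun ha => ?_⟩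
  · rw [(h a ha).eq, mul_inv_cancel_right]; exact ha
  · have h' := (h _ ha).inv_left.eq
    have e : a = g⁻¹ * (g * a * g⁻¹) * g := by group
    rw [e, h', inv_mul_cancel_right]
    exact ha

theorem comm_calc {H : Type*} [CommGroup H] (Z a b c d : H) : Z * a * (b * c) * d * (Z * b * d)⁻¹ = a * c := by
  rw [mul_inv_eq_iff_eq_mul]
  ac_rfl

variable [hp : Fact p.Prime] [Finite G] {D : Duo p G}

/-- A nontrivial normal subgroup contains a nontrivial central element. -/
theorem exists_central (hG : IsPGroup p G) {C : Subgroup G} [C.Normal] (hC : C ≠ ⊥) :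
    ∃ w ∈ C, w ≠ 1 ∧ ∀ g, Commute w g := by
  letI : MulAction (ConjAct G) C := inferInstance
  have hG' : IsPGroup p (ConjAct G) := hG
  haveI : Nontrivial C := (Subgroup.nontrivial_iff_ne_bot _).2 hC
  obtain ⟨k, hk⟩ := IsPGroup.iff_card.1 (hG.to_subgroup C)
  have hk0 : k ≠ 0 := fun h => by
    have := Finite.one_lt_card (α := C)
    rw [hk, h, pow_zero] at this
    exact lt_irrefl 1 this
  obtain ⟨w, hw, hne⟩ := hG'.exists_fixed_point_of_prime_dvd_card_of_fixed_point C (hk ▸ dvd_pow_self p hk0)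
    (a := 1) (fun g => smul_one g)
  refine ⟨w, w.2, fun h => hne (Subtype.ext h.symm), fun g => ?_⟩
  have h : g * (w : G) * g⁻¹ = w := congrArg Subtype.val (hw (ConjAct.toConjAct g))
  exact (mul_inv_eq_iff_eq_mul.1 h).symm

theorem com_bot (f : Pre p G) : Com f ⊥ where
  normal := inferInstance
  le _ _ := bot_le
  inv _ _ a _ x hx := by rw [Subgroup.mem_bot.1 hx, app_one]; exact one_mem _
  top φ _ x hx := by rw [Subgroup.mem_bot.1 hx, map_one]; exact one_mem _

/-- The plane `⟨y, t⟩` is not invariant in the abelian member unless the line is. -/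
theorem plane_not_inv (hG : IsPGroup p G) (hp2 : p ≠ 2) {A : Subgroup G} (hA : A ∈ D.f.ess) {z y t x : G}
    (hzA : z ∈ A) (hyA : y ∈ A) (htA : t ∈ A) (hc : ∀ a ∈ A, ∀ b ∈ A, Commute a b) (he : ∀ a ∈ A, a ^ p = 1)
    (hy : y ∉ Subgroup.zpowers t) (rz : x * z * x⁻¹ = z * y) (ry : x * y * x⁻¹ = y * t) (rt : x * t * x⁻¹ = t)
    (hIA : Nat.card A ≤ p * Nat.card (Subgroup.closure ({y, t} : Set G) : Subgroup G))
    (hI : Inv (D.f.aut A) (Subgroup.closure ({y, t} : Set G)))
    (hT : ¬ Inv (D.f.aut A) (Subgroup.zpowers t)) : False := by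
  haveI := D.f.normal A hA
  set I := Subgroup.closure ({y, t} : Set G) with hId
  have hIle : I ≤ A := (Subgroup.closure_le _).2 (by rintro r (rfl | rfl); exacts [hyA, htA])
  have hyI : y ∈ I := Subgroup.subset_closure (by simp)
  have htI : t ∈ I := Subgroup.subset_closure (by simp)
  have hyp := he y hyA
  have htp := he t htA
  have hcoord : ∀ r ∈ I, ∃ i j : ZMod p, r = ev y i * ev t j := fun r hr => by
    haveI : IsMulCommutative I := ⟨⟨fun a b => Subtype.ext (hc a (hIle a.2) b (hIle b.2)).eq⟩⟩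
    induction hr using Subgroup.closure_induction with
    | mem r hr =>
      rcases hr with rfl | rfl
      exacts [⟨1, 0, by rw [ev_one, ev_zero, mul_one]⟩, ⟨0, 1, by rw [ev_one, ev_zero, one_mul]⟩]
    | one => exact ⟨0, 0, by rw [ev_zero, ev_zero, one_mul]⟩
    | mul a b _ _ ha hb =>
      obtain ⟨i, j, rfl⟩ := ha
      obtain ⟨i', j', rfl⟩ := hb
      exact ⟨i + i', j + j', by
        rw [ev_add hyp, ev_add htp, (hc _ (ev_mem htA j) _ (ev_mem hyA i')).mul_mul_mul_comm]⟩
    | inv a _ ha =>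
      obtain ⟨i, j, rfl⟩ := ha
      exact ⟨-i, -j, by rw [ev_neg hyp, ev_neg htp, mul_inv_rev, ((hc _ (ev_mem hyA i) _ (ev_mem htA j)).inv_inv).eq]⟩
  obtain ⟨a, ha, hat⟩ : ∃ a ∈ D.f.aut A, app a t ∉ Subgroup.zpowers t := by
    by_contra! h
    refine hT fun a ha r hr => ?_
    obtain ⟨k, rfl⟩ := Subgroup.mem_zpowers_iff.1 hr
    rw [app_zpow a htA]
    exact zpow_mem (h a ha) k
  set t₁ := app a t with ht₁
  have ht₁I : t₁ ∈ I := hI a ha t htI
  obtain ⟨i, j, hij⟩ := hcoord t₁ ht₁I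
  have hi : i ≠ 0 := fun h => hat (by
    rw [hij, h, ev_zero, one_mul]; exact ev_mem (Subgroup.mem_zpowers t) j)
  set u := app a⁻¹ t with hu
  have huI : u ∈ I := hI _ (inv_mem ha) t htI
  obtain ⟨i', j', hij'⟩ := hcoord u huI
  have hau : app a u = t := app_app_inv a t
  have hi' : i' ≠ 0 := fun h => by
    rw [hij', h, ev_zero, one_mul, app_ev a htA, ← ht₁] at hau
    have hj' : j' ≠ 0 := fun h0 => by
      rw [h0, ev_zero] at hau
      exact hy (by
        have : y * t = y := by rw [← hau, mul_one]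
        exact absurd hat (by rw [ht₁, ← hau, app_one]; exact fun h => h (one_mem _)))
    exact hat (mem_of_ev (he t₁ (app_mem a htA)) hj' (by rw [hau]; exact Subgroup.mem_zpowers t))
  set g : MulAut A := MulAut.conjNormal x with hg
  have hgy : app g y = y * t := by rw [hg, app_conjNormal x hyA, ry]
  have hgt : app g t = t := by rw [hg, app_conjNormal x htA, rt]
  have hgcoord : ∀ i j : ZMod p, app g (ev y i * ev t j) = ev y i * ev t j * ev t i := fun i j => by
    rw [app_mul g (ev_mem hyA i) (ev_mem htA j), app_ev g hyA, app_ev g htA, hgy, hgt]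
    show (y * t) ^ i.val * _ = _
    rw [(hc y hyA t htA).mul_pow]
    show ev y i * ev t i * ev t j = _
    rw [mul_assoc, (hc _ (ev_mem htA i) _ (ev_mem htA j)).eq, ← mul_assoc]
  set g' : MulAut A := a * g * a⁻¹ with hg'
  have hg't₁ : app g' t₁ = t₁ := by
    rw [hg', app_mul_aut, app_mul_aut, ht₁, app_inv_app, hgt]
  have hg't : app g' t = t * ev t₁ i' := by
    rw [hg', app_mul_aut, app_mul_aut, ← hu, hij', hgcoord, app_mul a
      (mul_mem (ev_mem hyA i') (ev_mem htA j')) (ev_mem htA i'), ← hij', hau, app_ev a htA]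
  obtain ⟨w, hw, hw1, hw2, -⟩ := exists_neg (hIle ht₁I) htA (hc _ (hIle ht₁I) _ htA) (he _ (hIle ht₁I)) htp hi hi'
    (by rw [hij, hgcoord]) hgt hg't hg't₁
  have hgK : g ∈ kgen D.f A := conj_mem_kgen D.f x
  have hwK : w ∈ kgen D.f A := (Subgroup.closure_le _).2 (by
    rintro c (rfl | rfl)
    exacts [hgK, gen_mem D.f ha x]) hw
  -- the whole plane is inverted
  have hinv : ∀ r ∈ I, app w r = r⁻¹ := by
    have hIc : I ≤ Subgroup.closure ({t₁, t} : Set G) := (Subgroup.closure_le _).2 (by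
      rintro r (rfl | rfl)
      · refine mem_of_ev hyp hi ?_
        rw [show ev r i = t₁ * (ev t j)⁻¹ by rw [hij, mul_inv_cancel_right]]
        exact mul_mem (Subgroup.subset_closure (by simp)) (inv_mem (ev_mem (Subgroup.subset_closure (by simp)) j))
      · exact Subgroup.subset_closure (by simp))
    intro r hr
    suffices r ∈ A ∧ app w r = r⁻¹ from this.2
    have hr' := hIc hr
    clear hr
    induction hr' using Subgroup.closure_induction with
    | mem r hr => rcases hr with rfl | rfl; exacts [⟨hIle ht₁I, hw1⟩, ⟨htA, hw2⟩]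
    | one => exact ⟨one_mem _, by rw [app_one, inv_one]⟩
    | mul b c _ _ hb hc' =>
      exact ⟨mul_mem hb.1 hc'.1, by
        rw [app_mul w hb.1 hc'.1, hb.2, hc'.2, mul_inv_rev, ((hc b hb.1 c hc'.1).inv_inv).eq]⟩
    | inv b _ hb => exact ⟨inv_mem hb.1, by rw [app_inv w hb.1, hb.2]⟩
  have hfac : ∀ c ∈ kgen D.f A, ∀ r ∈ A, r⁻¹ * app c r ∈ I := fun c hc' =>
    kgen_small D.f hG le_rfl hIle (fun c _ r hr => app_mem c hr) (kinv_of_inv D.f hA hI) hIA hc'
  -- a fixed point outside the plane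
  set uz := z⁻¹ * app w z with huz
  have huzI : uz ∈ I := hfac w hwK z hzA
  set v := ev uz ((2 : ZMod p)⁻¹) with hv
  have h2 : (2 : ZMod p) ≠ 0 := by
    intro h
    have h' : ((2 : ℕ) : ZMod p) = 0 := by exact_mod_cast h
    rw [ZMod.natCast_eq_zero_iff] at h'
    exact hp2 ((Nat.prime_dvd_prime_iff_eq hp.out Nat.prime_two).1 h')
  have hvI : v ∈ I := ev_mem huzI _
  have hvv : v * v = uz := by
    rw [hv, ← ev_add (he _ (hIle huzI)), ← two_mul, mul_inv_cancel₀ h2, ev_one]
  have hfixed : app w (z * v) = z * v := by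
    rw [app_mul w hzA (hIle hvI), hinv v hvI, show app w z = z * uz by rw [huz, mul_inv_cancel_left], ← hvv]
    group
  -- the stabilizer of the plane and of the quotient is trivial
  let K : Subgroup (MulAut A) :=
    { carrier := {c | c ∈ D.f.aut A ∧ (∀ r ∈ I, app c r = r) ∧ ∀ r ∈ A, r⁻¹ * app c r ∈ I}
      one_mem' := ⟨one_mem _, fun r _ => app_one_aut r, fun r _ => by rw [app_one_aut, inv_mul_cancel]; exact one_mem _⟩
      mul_mem' := fun {c d} hc' hd => ⟨mul_mem hc'.1 hd.1, fun r hr => by rw [app_mul_aut, hd.2.1 r hr, hc'.2.1 r hr],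
        fun r hr => by
          rw [app_mul_aut, show r⁻¹ * app c (app d r) = (r⁻¹ * app d r) * ((app d r)⁻¹ * app c (app d r)) by group]
          exact mul_mem (hd.2.2 r hr) (hc'.2.2 _ (app_mem d hr))⟩
      inv_mem' := fun {c} hc' => ⟨inv_mem hc'.1, fun r hr => app_inj c (by rw [app_app_inv, hc'.2.1 r hr]),
        fun r hr => by
          have h := inv_mem (hc'.2.2 _ (app_mem c⁻¹ hr))
          rwa [app_app_inv, mul_inv_rev, inv_inv] at h⟩ }
  have hKp : IsPGroup p K := fun c => ⟨1, Subtype.ext (aut_ext fun r hr => by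
    obtain ⟨-, hfix, hmove⟩ := c.2
    have hn : ∀ n : ℕ, app ((c : MulAut A) ^ n) r = r * (r⁻¹ * app (c : MulAut A) r) ^ n := by
      intro n
      induction n with
      | zero => rw [pow_zero, app_one_aut, pow_zero, mul_one]
      | succ n ih =>
        rw [pow_succ', app_mul_aut, ih, app_mul _ hr (pow_mem (hIle (hmove r hr)) n),
          app_pow _ (hIle (hmove r hr)), hfix _ (hmove r hr), pow_succ', ← mul_assoc, ← mul_assoc,
          mul_inv_cancel, one_mul]
    rw [pow_one, SubmonoidClass.coe_pow, Subgroup.coe_one, app_one_aut, hn, he _ (hIle (hmove r hr)), mul_one])⟩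
  have hKn : ∀ b ∈ D.f.aut A, ∀ c ∈ K, b * c * b⁻¹ ∈ K := fun b hb c hc' =>
    ⟨mul_mem (mul_mem hb hc'.1) (inv_mem hb), fun r hr => by
      rw [app_mul_aut, app_mul_aut, hc'.2.1 _ (hI _ (inv_mem hb) r hr), app_app_inv], fun r hr => by
      have h1 := hI b hb _ (hc'.2.2 _ (app_mem b⁻¹ hr))
      rwa [app_mul b (inv_mem (app_mem _ hr)) (app_mem c (app_mem _ hr)), app_inv b (app_mem _ hr), app_app_inv,
        ← app_mul_aut, ← app_mul_aut] at h1⟩
  haveI hIn : I.Normal := D.f.normal_of_inv hA hIle hI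
  have hgi : ∀ r ∈ I, app g⁻¹ r ∈ I := fun r hr => hI _ (inv_mem (D.f.conj_mem hA x)) r hr
  set k := w * g * w⁻¹ * g⁻¹ with hk
  have hkK : k ∈ K := by
    have hkk : k ∈ kgen D.f A := mul_mem (mul_mem (mul_mem hwK hgK) (inv_mem hwK)) (inv_mem hgK)
    refine ⟨kgen_le D.f hA hkk, fun r hr => ?_, hfac k hkk⟩
    have h1 := hgi r hr
    have h2 : app w⁻¹ (app g⁻¹ r) = (app g⁻¹ r)⁻¹ := app_inj w (by
      rw [app_app_inv, app_inv w (hIle h1), hinv _ h1, inv_inv])
    rw [hk, app_mul_aut, app_mul_aut, app_mul_aut, h2, app_inv g (hIle h1), app_app_inv, app_inv w (hIle hr),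
      hinv r hr, inv_inv]
  obtain ⟨q, hq, hkq⟩ := D.f.radical A hA K (fun c hc' => hc'.1) hKn hKp k hkK
  have hk1 : ∀ r ∈ A, app k r = r := fun r hr => by
    rw [hkq r hr, (hc q hq r hr).eq, mul_inv_cancel_right]
  have hz₀A : z * v ∈ A := mul_mem hzA (hIle hvI)
  set r := (z * v)⁻¹ * app g (z * v) with hr
  have hrI : r ∈ I := hfac g hgK _ hz₀A
  have hgz : app w (app g (z * v)) = app g (z * v) := by
    have h1 := hk1 (app g (z * v)) (app_mem g hz₀A)
    rw [hk, app_mul_aut, app_mul_aut, app_mul_aut, app_inv_app] at h1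
    rwa [show app w⁻¹ (z * v) = z * v from app_inj w (by rw [app_app_inv, hfixed])] at h1
  rw [show app g (z * v) = z * v * r by rw [hr, mul_inv_cancel_left], app_mul w hz₀A (hIle hrI), hfixed,
    hinv r hrI, mul_right_inj] at hgz
  have hr1 : r = 1 := by
    have h : r ^ 2 = 1 := by
      rw [pow_two]
      nth_rewrite 1 [← hgz]
      exact inv_mul_cancel r
    have hg2 : r ^ Nat.gcd 2 p = 1 := pow_gcd_eq_one.2 ⟨h, he r (hIle hrI)⟩
    rwa [show Nat.gcd 2 p = 1 from (Nat.coprime_primes Nat.prime_two hp.out).2 (Ne.symm hp2), pow_one] at hg2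
  rw [hr1, eq_comm, inv_mul_eq_one, eq_comm] at hr
  rw [app_conjNormal x hz₀A] at hr
  obtain ⟨i₀, j₀, hv₀⟩ := hcoord v hvI
  have h3 : app g v = v * ev t i₀ := by rw [hv₀, hgcoord]
  rw [app_conjNormal x (hIle hvI)] at h3
  rw [show x * (z * v) * x⁻¹ = (x * z * x⁻¹) * (x * v * x⁻¹) by group, rz, h3,
    show z * y * (v * ev t i₀) = z * (y * (v * ev t i₀)) by group, mul_right_inj,
    ← mul_assoc, (hc y hyA v (hIle hvI)).eq, mul_assoc, mul_eq_left, mul_eq_one_iff_eq_inv] at hr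
  exact hy (hr ▸ inv_mem (ev_mem (Subgroup.mem_zpowers t) i₀))

/-- The data of the shape. -/
theorem sym_data (D : Duo p G) (hG : IsPGroup p G) (hsec : Cfsg.SectionalPRankLE p 3 G) (hp2 : p ≠ 2)
    (h0 : ∀ R, Com D.f R → R = ⊥) (hsh : Shape p G) {A B : Subgroup G} (hA : A ∈ D.f.ess) (hB : B ∈ D.f.ess)
    {z₀ : G} (hz₀ : z₀ ∈ zOm p A) (hz₀B : z₀ ∉ B) : ∃ z y t x : G, SymData p D.f A B z y t x := by
  obtain ⟨hcard, z, y, t, x, hzp, hyp, htp, hxp, czy, czt, cyt, cxt, rz, ry, hgen⟩ := hsh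
  haveI := D.f.normal A hA
  haveI := D.f.normal B hB
  set A₀ := Subgroup.closure ({z, y, t} : Set G) with hA₀
  have hgc : ∀ a ∈ ({z, y, t} : Set G), ∀ b ∈ ({z, y, t} : Set G), Commute a b := by
    rintro a (rfl | rfl | rfl) b (rfl | rfl | rfl) <;> first
      | exact Commute.refl _ | exact czy | exact czy.symm | exact czt | exact czt.symm | exact cyt | exact cyt.symm
  haveI := comm_closure hgc
  have hc : ∀ a ∈ A₀, ∀ b ∈ A₀, Commute a b := fun a ha b hb =>
    congrArg Subtype.val (mul_comm' (⟨a, ha⟩ : A₀) ⟨b, hb⟩)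
  have he : ∀ a ∈ A₀, a ^ p = 1 := fun a ha => pow_eq_one_closure p hgc
    (by rintro r (rfl | rfl | rfl); exacts [hzp, hyp, htp]) ha
  have rt : x * t * x⁻¹ = t := by rw [cxt.eq, mul_inv_cancel_right]
  have hcoord : ∀ a ∈ A₀, ∃ i j k : ZMod p, a = ev z i * ev y j * ev t k := fun a ha => by
    induction ha using Subgroup.closure_induction with
    | mem r hr =>
      rcases hr with rfl | rfl | rfl
      exacts [⟨1, 0, 0, by simp [ev_one, ev_zero]⟩, ⟨0, 1, 0, by simp [ev_one, ev_zero]⟩,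
        ⟨0, 0, 1, by simp [ev_one, ev_zero]⟩]
    | one => exact ⟨0, 0, 0, by simp [ev_zero]⟩
    | mul a b _ _ ha hb =>
      obtain ⟨i, j, k, rfl⟩ := ha
      obtain ⟨i', j', k', rfl⟩ := hb
      have h1 : Commute (ev z i') (ev y j) := czy.pow_pow _ _
      have h2 : Commute (ev z i') (ev t k) := czt.pow_pow _ _
      have h3 : Commute (ev y j') (ev t k) := cyt.pow_pow _ _
      refine ⟨i + i', j + j', k + k', ?_⟩
      rw [ev_add hzp, ev_add hyp, ev_add htp, show ev z i * ev y j * ev t k * (ev z i' * ev y j' * ev t k') =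
        ev z i * (ev y j * ev t k * ev z i') * (ev y j' * ev t k') by group, ← (h1.mul_right h2).eq,
        show ev z i * (ev z i' * (ev y j * ev t k)) * (ev y j' * ev t k') =
          ev z i * ev z i' * ev y j * (ev t k * ev y j') * ev t k' by group, ← h3.eq]
      group
    | inv a _ ha =>
      obtain ⟨i, j, k, rfl⟩ := ha
      refine ⟨-i, -j, -k, ?_⟩
      have h1 : Commute (ev z i) (ev y j) := czy.pow_pow _ _
      have h2 : Commute (ev z i) (ev t k) := czt.pow_pow _ _
      have h3 : Commute (ev y j) (ev t k) := cyt.pow_pow _ _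
      rw [ev_neg hzp, ev_neg hyp, ev_neg htp, (h2.mul_left h3).mul_inv, h1.mul_inv]
  have hzA₀ : z ∈ A₀ := Subgroup.subset_closure (by simp)
  have hyA₀ : y ∈ A₀ := Subgroup.subset_closure (by simp)
  have htA₀ : t ∈ A₀ := Subgroup.subset_closure (by simp)
  have hA₀n : A₀.Normal := by
    refine normal_of_gen hgen ?_
    rintro r (rfl | rfl | rfl | rfl) <;> intro a ha
    all_goals first
      | (rw [(hc _ (by assumption) a ha).eq, mul_inv_cancel_right]; exact ha)
      | skip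
    obtain ⟨i, j, k, rfl⟩ := hcoord a ha
    rw [show r * (ev z i * ev y j * ev t k) * r⁻¹ = (r * z * r⁻¹) ^ i.val * (r * y * r⁻¹) ^ j.val *
      (r * t * r⁻¹) ^ k.val by rw [conj_pow, conj_pow, conj_pow, conj_mul, conj_mul]; rfl, rz, ry, rt]
    exact mul_mem (mul_mem (pow_mem (mul_mem hzA₀ hyA₀) _) (pow_mem (mul_mem hyA₀ htA₀) _)) (pow_mem htA₀ _)
  have hxA : A₀ ⊔ Subgroup.zpowers x = ⊤ := by
    rw [eq_top_iff, ← hgen, Subgroup.closure_le]
    rintro r (rfl | rfl | rfl | rfl)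
    exacts [Subgroup.mem_sup_left hzA₀, Subgroup.mem_sup_left hyA₀, Subgroup.mem_sup_left htA₀,
      Subgroup.mem_sup_right (Subgroup.mem_zpowers _)]
  have hA₀c : Nat.card A₀ = p ^ 3 := by
    refine le_antisymm (card_elem_le hG hsec A₀ hc he) ?_
    have h := card_le_mul_of_pow (p := p) (N := A₀) (x := x) (by rw [hxp]; exact one_mem _)
    rw [hxA, Subgroup.card_top, hcard, pow_succ'] at h
    exact Nat.le_of_mul_le_mul_left h hp.out.pos
  have hyt : y ∉ Subgroup.zpowers t := fun h => by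
    have h1 : A₀ ≤ Subgroup.zpowers t ⊔ Subgroup.zpowers z := (Subgroup.closure_le _).2 (by
      rintro r (rfl | rfl | rfl)
      exacts [Subgroup.mem_sup_right (Subgroup.mem_zpowers _), Subgroup.mem_sup_left h,
        Subgroup.mem_sup_left (Subgroup.mem_zpowers _)])
    have h2 : Subgroup.zpowers z ≤ Subgroup.normalizer (Subgroup.zpowers t : Set G) := zpowers_le_norm fun r hr => by
      obtain ⟨k, rfl⟩ := Subgroup.mem_zpowers_iff.1 hr
      exact czt.zpow_right k
    have h3 := (Subgroup.card_le_of_le h1).trans ((card_sup_le h2).trans (Nat.mul_le_mul (card_zpowers_le htp)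
      (card_zpowers_le hzp)))
    rw [hA₀c] at h3
    nlinarith [hp.out.two_le]
  have ht1 : t ≠ 1 := fun ht => by
    have h1 : A₀ ≤ Subgroup.zpowers y ⊔ Subgroup.zpowers z := (Subgroup.closure_le _).2 (by
      rintro r (rfl | rfl | rfl)
      exacts [Subgroup.mem_sup_right (Subgroup.mem_zpowers _), Subgroup.mem_sup_left (Subgroup.mem_zpowers _),
        ht ▸ one_mem _])
    have h2 : Subgroup.zpowers z ≤ Subgroup.normalizer (Subgroup.zpowers y : Set G) := zpowers_le_norm fun r hr => by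
      obtain ⟨k, rfl⟩ := Subgroup.mem_zpowers_iff.1 hr
      exact czy.zpow_right k
    have h3 := (Subgroup.card_le_of_le h1).trans ((card_sup_le h2).trans (Nat.mul_le_mul (card_zpowers_le hyp)
      (card_zpowers_le hzp)))
    rw [hA₀c] at h3
    nlinarith [hp.out.two_le]
  have hxy : ∀ n : ℕ, x ^ n * y * (x ^ n)⁻¹ = y * t ^ n := by
    intro n
    induction n with
    | zero => simp
    | succ n ih =>
      rw [pow_succ', mul_inv_rev, show x * x ^ n * y * ((x ^ n)⁻¹ * x⁻¹) = x * (x ^ n * y * (x ^ n)⁻¹) * x⁻¹ by group,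
        ih, show x * (y * t ^ n) * x⁻¹ = (x * y * x⁻¹) * (x * t ^ n * x⁻¹) by group, ry,
        (cxt.pow_right n).eq, mul_inv_cancel_right, pow_succ', mul_assoc]
  have hdec : ∀ r : G, ∃ a ∈ A₀, ∃ l : ZMod p, r = a * ev x l := fun r => by
    haveI := hA₀n
    obtain ⟨a, ha, w, hw, rfl⟩ := Subgroup.mem_sup_of_normal_left.1 (hxA.ge (Subgroup.mem_top r))
    obtain ⟨l, rfl⟩ := exists_ev hxp hw
    exact ⟨a, ha, l, rfl⟩
  have hcy : ∀ a ∈ A₀, ∀ l : ZMod p, ⁅a * ev x l, y⁆ = ev t l := fun a ha l => by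
    have h2 : a * t ^ l.val = t ^ l.val * a := (hc a ha _ (pow_mem htA₀ _)).eq
    rw [commutatorElement_def, show a * ev x l * y * (a * ev x l)⁻¹ * y⁻¹ =
      a * (x ^ l.val * y * (x ^ l.val)⁻¹) * a⁻¹ * y⁻¹ by rw [ev]; group, hxy,
      (hc a ha _ (mul_mem hyA₀ (pow_mem htA₀ _))).eq, mul_inv_cancel_right,
      (hc y hyA₀ _ (pow_mem htA₀ _)).eq, mul_inv_cancel_right]
    rfl
  have hphi : ∀ X ∈ D.f.ess, y ∈ X ∧ t ∈ X := fun X hX => by
    haveI := D.f.normal X hX
    have h1 : ∀ a b : G, ⁅a, b⁆ ∈ X := fun a b => phi_le_member hG (D.f.index X hX) ⊤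
      (comm_mem_phi hG (Subgroup.mem_top a) (Subgroup.mem_top b))
    have hy' : ⁅x, z⁆ = y := by rw [commutatorElement_def, rz, czy.eq, mul_inv_cancel_right]
    have ht' : ⁅x, y⁆ = t := by rw [commutatorElement_def, ry, cyt.eq, mul_inv_cancel_right]
    exact ⟨hy' ▸ h1 x z, ht' ▸ h1 x y⟩
  have hcentral : ∀ w : G, (∀ g, Commute w g) → w ∈ Subgroup.zpowers t := fun w hw => by
    obtain ⟨a, ha, l, rfl⟩ := hdec w
    have hl := hcy a ha l
    rw [commutatorElement_eq_one_iff_commute.2 (hw y), eq_comm] at hl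
    rw [ev_eq_one htp ht1 hl, ev_zero, mul_one] at hw ⊢
    obtain ⟨i, j, k, rfl⟩ := hcoord a ha
    have hx := (hw x).eq
    have hcomp : x * (ev z i * ev y j * ev t k) * x⁻¹ = ev z i * ev y j * ev t k * (ev y i * ev t j) := by
      rw [show x * (ev z i * ev y j * ev t k) * x⁻¹ = (x * z * x⁻¹) ^ i.val * (x * y * x⁻¹) ^ j.val * (x * t * x⁻¹) ^ k.val
        by rw [conj_pow, conj_pow, conj_pow, conj_mul, conj_mul]; rfl, rz, ry, rt, czy.mul_pow, cyt.mul_pow]
      show ev z i * ev y i * (ev y j * ev t j) * ev t k = _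
      have h1 : Commute (ev y i) (ev y j) := (Commute.refl y).pow_pow _ _
      have h2 : Commute (ev t j) (ev t k) := (Commute.refl t).pow_pow _ _
      have h3 : Commute (ev y i) (ev t k) := cyt.pow_pow _ _
      rw [show ev z i * ev y i * (ev y j * ev t j) * ev t k = ev z i * (ev y i * ev y j) * (ev t j * ev t k) by group,
        h1.eq, h2.eq, show ev z i * (ev y j * ev y i) * (ev t k * ev t j) = ev z i * ev y j * (ev y i * ev t k) * ev t j
          by group, h3.eq]
      group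
    rw [← hx, mul_inv_cancel_right, left_eq_mul] at hcomp
    have hi : i = 0 := by
      by_contra hi
      refine hyt (mem_of_ev hyp hi ?_)
      rw [eq_inv_of_mul_eq_one_left hcomp]
      exact inv_mem (ev_mem (Subgroup.mem_zpowers t) j)
    rw [hi, ev_zero, one_mul] at hcomp ⊢
    rw [ev_eq_one htp ht1 hcomp, ev_zero, one_mul]
    exact ev_mem (Subgroup.mem_zpowers t) k
  obtain ⟨a₀, ha₀, l₀, hl₀⟩ := hdec z₀
  have hAeq : A₀ = A := by
    have h1 := hcy a₀ ha₀ l₀
    rw [← hl₀, commutatorElement_eq_one_iff_commute.2 (hz₀.2.1 y (hphi A hA).1), eq_comm] at h1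
    rw [ev_eq_one htp ht1 h1, ev_zero, mul_one] at hl₀
    obtain ⟨i, j, k, rfl⟩ := hcoord a₀ ha₀
    have hi : i ≠ 0 := fun hi => hz₀B (by
      rw [hl₀, hi, ev_zero, one_mul]
      exact mul_mem (ev_mem (hphi B hB).1 j) (ev_mem (hphi B hB).2 k))
    have hzA : z ∈ A := mem_of_ev hzp hi (by
      have h2 : ev z i = z₀ * (ev y j * ev t k)⁻¹ := by rw [hl₀]; group
      rw [h2]
      exact mul_mem hz₀.1 (inv_mem (mul_mem (ev_mem (hphi A hA).1 j) (ev_mem (hphi A hA).2 k))))
    refine Subgroup.eq_of_le_of_card_ge ((Subgroup.closure_le _).2 ?_) ?_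
    · rintro r (rfl | rfl | rfl)
      exacts [hzA, (hphi A hA).1, (hphi A hA).2]
    · have h := A.card_mul_index
      rw [D.f.index A hA, hcard, pow_succ'] at h
      rw [hA₀c, Nat.eq_of_mul_eq_mul_left hp.out.pos ((mul_comm p _).trans h)]
  subst hAeq
  have hne : A₀ ≠ B := fun h => hz₀B (h ▸ hz₀.1)
  have hcB : Nat.card B = p ^ 3 := by
    have h := B.card_mul_index
    rw [D.f.index B hB, hcard, pow_succ'] at h
    exact Nat.eq_of_mul_eq_mul_left hp.out.pos ((mul_comm p _).trans h)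
  obtain ⟨hyB, htB⟩ := hphi B hB
  set I := Subgroup.closure ({y, t} : Set G) with hI
  have hIA : I ≤ A₀ := (Subgroup.closure_le _).2 (by rintro r (rfl | rfl); exacts [hyA₀, htA₀])
  have hIB : I ≤ B := (Subgroup.closure_le _).2 (by rintro r (rfl | rfl); exacts [hyB, htB])
  haveI hA₀n' : A₀.Normal := hA₀n
  have hzI : z ∉ I := fun h => hne (Subgroup.eq_of_le_of_card_ge ((Subgroup.closure_le _).2 (by
    rintro r (rfl | rfl | rfl)
    exacts [hIB h, hyB, htB])) (by rw [hA₀c, hcB]))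
  have hIc : Nat.card A₀ ≤ p * Nat.card I := by
    have h1 : A₀ ≤ I ⊔ Subgroup.zpowers z := (Subgroup.closure_le _).2 (by
      rintro r (rfl | rfl | rfl)
      exacts [Subgroup.mem_sup_right (Subgroup.mem_zpowers _), Subgroup.mem_sup_left (Subgroup.subset_closure (by simp)),
        Subgroup.mem_sup_left (Subgroup.subset_closure (by simp))])
    have h2 : Subgroup.zpowers z ≤ Subgroup.normalizer (I : Set G) :=
      zpowers_le_norm fun r hr => hc z hzA₀ r (hIA hr)
    rw [mul_comm]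
    exact (Subgroup.card_le_of_le h1).trans ((card_sup_le h2).trans (Nat.mul_le_mul_left _ (card_zpowers_le hzp)))
  have hIcard : Nat.card I = p ^ 2 := by
    refine le_antisymm ?_ (Nat.le_of_mul_le_mul_left (by rw [← pow_succ']; exact hA₀c ▸ hIc) hp.out.pos)
    have := step hG hIA hzA₀ hzI
    rw [hA₀c, pow_succ' p 2] at this
    exact Nat.le_of_mul_le_mul_left this hp.out.pos
  have hxB : ∃ b ∈ B, ∃ l : ZMod p, l ≠ 0 ∧ ∃ a ∈ A₀, b = a * ev x l := by
    obtain ⟨b, hb, hbA⟩ := inf_lt (D.f.index B hB) (D.f.index A₀ hA) hne.symm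
    obtain ⟨a, ha, l, rfl⟩ := hdec b
    exact ⟨_, hb, l, fun hl => hbA ⟨hb, by rw [hl, ev_zero, mul_one]; exact ha⟩, a, ha, rfl⟩
  obtain ⟨b, hb, l, hl, a, ha, hbe⟩ := hxB
  have hby : ⁅b, y⁆ = ev t l := by rw [hbe]; exact hcy a ha l
  have htphi : t ∈ phi B := mem_of_ev htp hl (hby ▸ comm_mem_phi hG hb hyB)
  have hphiB : phi B = Subgroup.zpowers t := by
    refine (Subgroup.eq_of_le_of_card_ge (Subgroup.zpowers_le.2 htphi) ?_).symm
    have h1 := big_quot D hG hsec (com_bot D.f) hB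
    rw [bot_sup_eq, hcB, pow_succ' p 2] at h1
    have h2 := Nat.lt_of_mul_lt_mul_left h1
    obtain ⟨k, hk⟩ := IsPGroup.iff_card.1 (hG.to_subgroup (phi B))
    rw [hk] at h2 ⊢
    have hk2 := (Nat.pow_lt_pow_iff_right hp.out.one_lt).1 h2
    rw [Nat.card_zpowers, orderOf_eq_prime htp ht1]
    calc p ^ k ≤ p ^ 1 := Nat.pow_le_pow_right hp.out.pos (by omega)
      _ = p := pow_one p
  have hTnA : ¬ Inv (D.f.aut A₀) (Subgroup.zpowers t) := fun hinv => by
    refine ht1 (Subgroup.zpowers_eq_bot.1 (h0 _ ⟨?_, fun X hX => Subgroup.zpowers_le.2 (hphi X hX).2,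
      fun X hX => ?_, fun φ _ r hr => ?_⟩))
    · exact D.f.normal_of_inv hA (Subgroup.zpowers_le.2 htA₀) hinv
    · obtain ⟨X', -, -, hall⟩ := D.two A₀ hA
      rcases hall X hX with rfl | h
      · exact hinv
      · have hXB : X = B := h.trans ((hall B hB).resolve_left hne.symm).symm
        subst hXB
        rw [← hphiB]
        exact fun c _ => phi_inv le_rfl fun r hr => app_mem c hr
    · obtain ⟨k, rfl⟩ := Subgroup.mem_zpowers_iff.1 hr
      rw [map_zpow]
      refine zpow_mem (hcentral _ fun g => ?_) k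
      obtain ⟨g, rfl⟩ := φ.surjective g
      have htc : Commute t g := by
        obtain ⟨a, ha, l, rfl⟩ := hdec g
        exact (hc t htA₀ a ha).mul_right (cxt.symm.pow_right _)
      exact htc.map φ.toMonoidHom
  refine ⟨z, y, t, x, hA, hB, hne, hzA₀, hyA₀, htA₀, hyB, htB, hcard, hA₀c, hc, he, rfl, rz, ry, rt, ?_, ?_, ?_,
    b, hb, y, hyB, fun h => hl (ev_eq_one htp ht1 (by rw [← hby, commutatorElement_eq_one_iff_commute.2 h]))⟩
  · intro C hC hC1
    haveI := hC
    obtain ⟨w, hw, hw1, hwc⟩ := exists_central hG hC1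
    obtain ⟨k, hk⟩ := exists_ev htp (hcentral w hwc)
    exact mem_of_ev htp (fun h => hw1 (by rw [hk, h, ev_zero])) (hk ▸ hw)
  · intro X hXA hXi htX
    haveI hXn := D.f.normal_of_inv hA hXA hXi
    have hcomX : ∀ r ∈ X, x * r * x⁻¹ * r⁻¹ ∈ X := fun r hr => mul_mem (hXn.conj_mem r hr x) (inv_mem hr)
    have hyX : y ∈ X → X = A₀ := fun hyX => by
      by_contra hne'
      refine plane_not_inv hG hp2 hA hzA₀ hyA₀ htA₀ hc he hyt rz ry rt hIc ?_ hTnA
      have hIX : X = I := by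
        refine (Subgroup.eq_of_le_of_card_ge ((Subgroup.closure_le _).2 (by
          rintro r (rfl | rfl); exacts [hyX, htX])) ?_).symm
        obtain ⟨r, hr, hrX⟩ := exists_not_mem (N := X) (B := A₀) (lt_of_le_of_ne (Subgroup.card_le_of_le hXA)
          fun h => hne' (Subgroup.eq_of_le_of_card_ge hXA h.ge))
        have := step hG hXA hr hrX
        rw [hA₀c, pow_succ' p 2] at this
        rw [hIcard]
        exact Nat.le_of_mul_le_mul_left this hp.out.pos
      rw [← hI, ← hIX]; exact hXi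
    by_cases hXT : X ≤ Subgroup.zpowers t
    · exact absurd (le_antisymm hXT (Subgroup.zpowers_le.2 htX) ▸ hXi) hTnA
    obtain ⟨r, hr, hrT⟩ := SetLike.not_le_iff_exists.1 hXT
    obtain ⟨i, j, k, rfl⟩ := hcoord r (hXA hr)
    by_cases hi : i = 0
    · refine hyX (mem_of_ev hyp (a := j) (fun hj => hrT ?_) ?_)
      · rw [hi, hj, ev_zero, ev_zero, one_mul, one_mul]; exact ev_mem (Subgroup.mem_zpowers t) k
      · rw [hi, ev_zero, one_mul] at hr
        have := mul_mem hr (inv_mem (ev_mem htX k))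
        rwa [mul_inv_cancel_right] at this
    · refine hyX (mem_of_ev hyp (a := i) hi ?_)
      have h1 := hcomX _ hr
      rw [show x * (ev z i * ev y j * ev t k) * x⁻¹ = (x * z * x⁻¹) ^ i.val * (x * y * x⁻¹) ^ j.val * (x * t * x⁻¹) ^ k.val
        by rw [conj_pow, conj_pow, conj_pow, conj_mul, conj_mul]; rfl, rz, ry, rt, czy.mul_pow, cyt.mul_pow] at h1
      letI : CommGroup A₀ := { (inferInstance : Group A₀) with mul_comm := fun a b => Subtype.ext (hc a a.2 b b.2).eq }
      have h4 : ∀ a b c d : G, a ∈ A₀ → b ∈ A₀ → c ∈ A₀ → d ∈ A₀ →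
          ev z i * a * (b * c) * d * (ev z i * b * d)⁻¹ = a * c := fun a b c d ha hb hc' hd =>
        congrArg Subtype.val (comm_calc (⟨_, ev_mem hzA₀ i⟩ : A₀) ⟨a, ha⟩ ⟨b, hb⟩ ⟨c, hc'⟩ ⟨d, hd⟩)
      have h1' : ev y i * ev t j ∈ X := by
        rw [← h4 (ev y i) (ev y j) (ev t j) (ev t k) (ev_mem hyA₀ i) (ev_mem hyA₀ j) (ev_mem htA₀ j) (ev_mem htA₀ k)]
        exact h1
      have := mul_mem h1' (inv_mem (ev_mem htX j))
      rwa [mul_inv_cancel_right] at this
  · intro X hXB hXi hyX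
    haveI hXn := D.f.normal_of_inv hB hXB hXi
    have htX : t ∈ X := by
      have h : x * y * x⁻¹ * y⁻¹ ∈ X := mul_mem (hXn.conj_mem y hyX x) (inv_mem hyX)
      rwa [ry, cyt.eq, mul_inv_cancel_right] at h
    by_contra hne'
    have hXI : X = I := by
      refine (Subgroup.eq_of_le_of_card_ge ((Subgroup.closure_le _).2 (by
        rintro r (rfl | rfl); exacts [hyX, htX])) ?_).symm
      obtain ⟨r, hr, hrX⟩ := exists_not_mem (N := X) (B := B) (lt_of_le_of_ne (Subgroup.card_le_of_le hXB)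
        fun h => hne' (Subgroup.eq_of_le_of_card_ge hXB h.ge))
      have := step hG hXB hr hrX
      rw [hcB, pow_succ' p 2] at this
      rw [hIcard]
      exact Nat.le_of_mul_le_mul_left this hp.out.pos
    subst hXI
    refine no_line D hG hsec (com_bot D.f) hB (X := I) (by rw [bot_sup_eq, hphiB]; exact Subgroup.zpowers_le.2 htX) hIB
      hXi ?_ (by rw [hcB, hIcard, pow_succ'])
    rw [bot_sup_eq, hphiB, Nat.card_zpowers, orderOf_eq_prime htp ht1, hIcard, pow_two]

end Cfsg.Agent.RankThreeChar
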