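import Cfsg.Agent.Lib.RankThreeChar.Quot
import Cfsg.Agent.Lib.RankThreeChar.Sym
import Cfsg.Agent.Lib.OddOrder.OmegaCentral

/-!
The symplectic shape does not lie over a nontrivial common invariant subgroup.
-/

set_option autoImplicit false
set_option linter.unusedSectionVars false
set_option linter.style.haveILetI false
set_option maxHeartbeats 1000000

open scoped commutatorElement
open Cfsg.Agent.RankThreeEss Cfsg.Agent.RankThreeNormal

namespace Cfsg.Agent.RankThreeChar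

variable {G : Type*} [Group G] {p : ℕ} [hp : Fact p.Prime] [Finite G]

/-- One step in a normal subgroup costs at most the order of what is below in the index of the centralizer. -/
theorem index_centralizer_step (hG : IsPGroup p G) {W V : Subgroup G} [W.Normal] [V.Normal] (hWV : W ≤ V)
    (hc : Nat.card V = p * Nat.card W) :
    (Subgroup.centralizer (V : Set G)).index ≤ (Subgroup.centralizer (W : Set G)).index * Nat.card W := by
  obtain ⟨v, hv, hvW⟩ := exists_not_mem (N := W) (B := V) (by rw [hc]; exact lt_mul_self W)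
  have hle : Subgroup.centralizer (W : Set G) ⊓ Subgroup.centralizer {v} ≤ Subgroup.centralizer (V : Set G) := by
    intro g hg
    refine Subgroup.mem_centralizer_iff.2 fun r hr => ?_
    rw [SetLike.mem_coe, ← eq_sup hG hWV hc hv hvW] at hr
    obtain ⟨w, hw, u, hu, rfl⟩ := Subgroup.mem_sup_of_normal_left.1 hr
    obtain ⟨k, rfl⟩ := Subgroup.mem_zpowers_iff.1 hu
    exact Commute.mul_left (Subgroup.mem_centralizer_iff.1 hg.1 w hw)
      (Commute.zpow_left (Subgroup.mem_centralizer_iff.1 hg.2 v rfl) k)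
  refine (Nat.le_of_dvd (Nat.pos_of_ne_zero Subgroup.index_ne_zero_of_finite)
    (Subgroup.index_dvd_of_le hle)).trans ((Subgroup.index_inf_le).trans (Nat.mul_le_mul_left _ ?_))
  rw [Subgroup.index_eq_card]
  refine Nat.card_le_card_of_injective
    (fun r : G ⧸ Subgroup.centralizer {v} => (⟨⁅r.out, v⁆, commutator_mem_of_step hG hWV hc.le hv _⟩ : W))
    fun r s h => ?_
  have h1 : r.out * v * r.out⁻¹ = s.out * v * s.out⁻¹ := mul_right_cancel (congrArg Subtype.val h)
  rw [← r.out_eq', ← s.out_eq']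
  refine QuotientGroup.eq.2 (Subgroup.mem_centralizer_singleton_iff.2 ?_)
  calc r.out⁻¹ * s.out * v = r.out⁻¹ * (s.out * v * s.out⁻¹) * s.out := by group
    _ = v * (r.out⁻¹ * s.out) := by rw [← h1]; group

/-- The centralizer of a small normal subgroup has small index. -/
theorem index_centralizer_le (hG : IsPGroup p G) : ∀ (k : ℕ) (V : Subgroup G) [V.Normal], Nat.card V = p ^ k →
    (Subgroup.centralizer (V : Set G)).index ≤ p ^ k.choose 2 := by
  intro k
  induction k with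
  | zero =>
    intro V _ hV
    rw [pow_zero] at hV
    rw [Subgroup.eq_bot_of_card_eq V hV, Subgroup.index_eq_one.2]
    · simp
    · exact eq_top_iff.2 fun g _ => Subgroup.mem_centralizer_iff.2 fun r hr => by
        rw [Subgroup.mem_bot.1 hr, one_mul, mul_one]
  | succ k ih =>
    intro V _ hV
    obtain ⟨W, hWn, hWV, hW⟩ := OddOrder.OmegaCen.exists_normal_card hG V (k := k)
      (by rw [hV]; exact Nat.pow_le_pow_right hp.out.pos k.le_succ)
    haveI := hWn
    refine (index_centralizer_step hG hWV (by rw [hV, hW, pow_succ'])).trans ?_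
    rw [hW, Nat.choose_succ_succ, Nat.choose_one_right, add_comm, pow_add]
    exact Nat.mul_le_mul_right _ (ih W hW)

theorem phi_eq_self {Q : Subgroup G} (h : Q ≤ phi Q) : Q = ⊥ := by
  have h1 : (⊥ : Subgroup Q) ⊔ frattini Q = ⊤ := by
    rw [bot_sup_eq]
    exact eq_top_iff.2 fun x _ => mem_phi.1 (h x.2)
  exact (Subgroup.eq_bot_iff_forall _).2 fun x hx => congrArg Subtype.val
    (Subgroup.mem_bot.1 ((frattini_nongenerating h1).ge (Subgroup.mem_top (⟨x, hx⟩ : Q))))

variable (D : Duo p G) (hG : IsPGroup p G) (hsec : Cfsg.SectionalPRankLE p 3 G) {Q : Subgroup G} [Q.Normal]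

omit hp [Finite G] in
/-- An invariant subgroup above `Q` gives one of the quotient. -/
theorem mapInv {Ebar : Subgroup (G ⧸ Q)} {X : Subgroup G} (hXE : X ≤ Ebar.comap (QuotientGroup.mk' Q))
    (hX : Inv (D.f.aut (Ebar.comap (QuotientGroup.mk' Q))) X) :
    Inv (autQ D.f Q Ebar) (X.map (QuotientGroup.mk' Q)) := by
  rintro b ⟨a, ha, hab⟩ _ ⟨r, hr, rfl⟩
  exact ⟨app a r, hX a ha r hr, (hab r (hXE hr)).symm⟩

omit hp [Finite G] in
theorem eq_of_map {Ebar : Subgroup (G ⧸ Q)} {X : Subgroup G} (hQX : Q ≤ X)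
    (h : X.map (QuotientGroup.mk' Q) = Ebar) : X = Ebar.comap (QuotientGroup.mk' Q) := by
  rw [← h, Subgroup.comap_map_eq_self (by rw [QuotientGroup.ker_mk']; exact hQX)]

/-- No symplectic shape over a nontrivial common invariant subgroup. -/
theorem sym_lift (hQ : Com D.f Q) (hQ1 : Q ≠ ⊥) {Abar Bbar : Subgroup (G ⧸ Q)} {z y t x : G ⧸ Q}
    (hd : SymData p (quotDuo D hG hsec hQ).f Abar Bbar z y t x) : False := by
  set π := QuotientGroup.mk' Q with hπ
  set A := Abar.comap π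
  set B := Bbar.comap π
  have hA : A ∈ D.f.ess := hd.hA
  have hB : B ∈ D.f.ess := hd.hB
  haveI := D.f.normal A hA
  haveI := D.f.normal B hB
  have hQA : Q ≤ A := hQ.le A hA
  have hQB : Q ≤ B := hQ.le B hB
  set Φ := phi Q with hΦ
  set q := QuotientGroup.mk' Φ with hq
  have hΦA : Inv (D.f.aut A) Φ := fun a ha => phi_inv hQA (hQ.inv A hA a ha)
  -- the action on the layer is trivial
  have hex : ∃ t₀ ∈ cV Q, π t₀ = t := by
    haveI : ((cV Q).map π).Normal := Subgroup.Normal.map inferInstance _ (QuotientGroup.mk'_surjective Q)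
    refine hd.minimal ((cV Q).map π) inferInstance fun h => ?_
    have hCQ : cV Q ≤ Q := fun g hg => (QuotientGroup.eq_one_iff g).1
      (Subgroup.mem_bot.1 (h ▸ Subgroup.mem_map_of_mem π hg) : π g = 1)
    have h1 : Q.index ≤ (cV Q).index :=
      (congrArg Subgroup.index (le_antisymm hCQ (le_cV hG Q))).ge
    haveI hVn : (Q.map q).Normal := Subgroup.Normal.map inferInstance _ (QuotientGroup.mk'_surjective Φ)
    have hV : Nat.card (Q.map q) ≤ p ^ 3 := by
      have h2 := card_le_phi hG hsec Q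
      have h3 : Nat.card Q = Nat.card (Q.map q) * Nat.card Φ := by
        have hk : (q.comp Q.subtype).ker.map Q.subtype = Φ := by
          ext r
          constructor
          · rintro ⟨a, ha, rfl⟩; exact (QuotientGroup.eq_one_iff _).1 ha
          · exact fun hr => ⟨⟨r, phi_le Q hr⟩, (QuotientGroup.eq_one_iff r).2 hr, rfl⟩
        have hc := congrArg (fun K : Subgroup G => Nat.card K) hk
        simp only [Subgroup.card_map_of_injective Q.subtype_injective] at hc
        rw [← (q.comp Q.subtype).ker.card_mul_index, Subgroup.index_ker, hc, MonoidHom.range_comp, Q.range_subtype,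
          mul_comm]
      rw [h3] at h2
      exact Nat.le_of_mul_le_mul_right h2 Nat.card_pos
    obtain ⟨k, hk⟩ := IsPGroup.iff_card.1 ((hG.to_quotient Φ).to_subgroup (Q.map q))
    rw [hk] at hV
    have hk3 := (Nat.pow_le_pow_iff_right hp.out.one_lt).1 hV
    have h4 : (cV Q).index ≤ p ^ 3 := by
      unfold cV
      rw [Subgroup.index_comap_of_surjective _ (QuotientGroup.mk'_surjective _)]
      refine (index_centralizer_le (hG.to_quotient Φ) k _ hk).trans (Nat.pow_le_pow_right hp.out.pos ?_)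
      interval_cases k <;> decide
    rw [Subgroup.index_eq_card Q, hd.cardG] at h1
    have := (Nat.pow_le_pow_iff_right hp.out.one_lt).1 (h1.trans h4)
    omega
  obtain ⟨t₀, ht₀, rfl⟩ := hex
  obtain ⟨y₀, rfl⟩ := QuotientGroup.mk'_surjective Q y
  obtain ⟨z₀, rfl⟩ := QuotientGroup.mk'_surjective Q z
  obtain ⟨x₀, rfl⟩ := QuotientGroup.mk'_surjective Q x
  have htA : t₀ ∈ A := hd.tA
  have hyA : y₀ ∈ A := hd.yA
  have hzA : z₀ ∈ A := hd.zA
  have hAC : A ≤ cV Q := by
    have h := eq_of_map (X := A ⊓ cV Q) (le_inf hQA (le_cV hG Q)) (hd.maxA _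
      (Subgroup.map_le_iff_le_comap.2 inf_le_left)
      (mapInv D inf_le_left fun a ha r hr => ⟨app_mem a hr.1, cV_inv hQA (hQ.inv A hA) hr.1 hr.2 ha⟩)
      ⟨t₀, ⟨htA, ht₀⟩, rfl⟩)
    exact h.ge.trans inf_le_right
  have hBC : B ≤ cV Q := by
    have h := eq_of_map (X := B ⊓ cV Q) (le_inf hQB (le_cV hG Q)) (hd.maxB _
      (Subgroup.map_le_iff_le_comap.2 inf_le_left)
      (mapInv D inf_le_left fun a ha r hr => ⟨app_mem a hr.1, cV_inv hQB (hQ.inv B hB) hr.1 hr.2 ha⟩)
      ⟨y₀, ⟨hd.yB, hAC hyA⟩, rfl⟩)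
    exact h.ge.trans inf_le_right
  have hne : A ≠ B := fun h => hd.ne (Subgroup.comap_injective (QuotientGroup.mk'_surjective Q) h)
  have hall : ∀ g : G, g ∈ cV Q := fun g => by
    obtain ⟨r, hr, hrI⟩ := inf_lt (D.f.index A hA) (D.f.index B hB) hne
    exact (eq_top_of_index (D.f.index B hB) hBC (hAC hr) fun h => hrI ⟨hr, h⟩).ge (Subgroup.mem_top g)
  have hcen : ∀ v ∈ Q, ∀ r : G ⧸ Φ, Commute (q v) r := fun v hv r => by
    obtain ⟨g, rfl⟩ := QuotientGroup.mk'_surjective Φ r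
    refine (commutatorElement_eq_one_iff_commute.1 ?_).symm
    rw [← map_commutatorElement]
    exact (QuotientGroup.eq_one_iff _).2 (mem_cV.1 (hall g) v hv)
  have hcomm : ∀ a ∈ A, ∀ b ∈ A, ∀ r, Commute ⁅q a, q b⁆ r := fun a ha b hb r => by
    rw [← map_commutatorElement]
    refine hcen _ ((QuotientGroup.eq_one_iff _).1 (show π _ = 1 from ?_)) r
    rw [map_commutatorElement, commutatorElement_eq_one_iff_commute]
    exact hd.comm _ ha _ hb
  have hpow : ∀ a ∈ A, a ^ p ∈ Q := fun a ha =>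
    (QuotientGroup.eq_one_iff _).1 (show π _ = 1 by rw [map_pow]; exact hd.exp _ ha)
  have hrel : ∀ {a b : G}, π (x₀ * a * x₀⁻¹) = π b → ∃ u ∈ Q, q x₀ * q a * (q x₀)⁻¹ = q b * q u := fun {a b} h =>
    ⟨b⁻¹ * (x₀ * a * x₀⁻¹), QuotientGroup.eq.1 h.symm, by simp only [map_mul, map_inv]; group⟩
  obtain ⟨u₁, hu₁, r1⟩ := hrel (a := z₀) (b := z₀ * y₀) (by simp only [map_mul, map_inv]; exact hd.rz)
  obtain ⟨u₂, hu₂, r2⟩ := hrel (a := y₀) (b := y₀ * t₀) (by simp only [map_mul, map_inv]; exact hd.ry)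
  obtain ⟨u₃, hu₃, r3⟩ := hrel (a := t₀) (b := t₀) (by simp only [map_mul, map_inv]; exact hd.rt)
  rw [map_mul] at r1 r2
  have hconj : ∀ a b c : G ⧸ Φ, (∀ g, Commute ⁅a, b⁆ g) → ⁅c * a * c⁻¹, c * b * c⁻¹⁆ = ⁅a, b⁆ := fun a b c h => by
    rw [show ⁅c * a * c⁻¹, c * b * c⁻¹⁆ = c * ⁅a, b⁆ * c⁻¹ by simp only [commutatorElement_def]; group,
      ← (h c).eq, mul_inv_cancel_right]
  have hdrop : ∀ a b : G ⧸ Φ, ∀ u ∈ Q, ∀ w ∈ Q, ⁅a * q u, b * q w⁆ = ⁅a, b⁆ := fun a b u hu w hw => by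
    rw [← (hcen u hu a).eq, comm_central_left (hcen u hu), ← (hcen w hw b).eq, comm_central_right (hcen w hw)]
  have hyt : ⁅q y₀, q t₀⁆ = 1 := by
    have h := hconj (q z₀) (q t₀) (q x₀) (hcomm _ hzA _ htA)
    rw [r1, r3, hdrop _ _ u₁ hu₁ u₃ hu₃, comm_mul_left (hcomm _ hyA _ htA)] at h
    exact mul_eq_left.1 h
  have hzt : ⁅q z₀, q t₀⁆ = 1 := by
    have h := hconj (q z₀) (q y₀) (q x₀) (hcomm _ hzA _ hyA)
    have hc2 : ∀ a ∈ A, ∀ r, Commute ⁅q a, q y₀ * q t₀⁆ r := fun a ha r => by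
      rw [← map_mul]; exact hcomm a ha _ (mul_mem hyA htA) r
    rw [r1, r2, hdrop _ _ u₁ hu₁ u₂ hu₂, comm_mul_left (hc2 y₀ hyA), comm_mul_right (hcomm _ hzA _ htA),
      comm_mul_right (hcomm _ hyA _ htA), hyt, commutatorElement_self, mul_one, mul_one] at h
    exact mul_eq_left.1 h
  -- the member is abelian modulo the Frattini subgroup of `Q`
  have hgen : A ≤ Subgroup.closure ({z₀, y₀, t₀} : Set G) ⊔ Q := by
    have h : (Subgroup.closure ({z₀, y₀, t₀} : Set G)).map π = Abar := by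
      rw [MonoidHom.map_closure, Set.image_insert_eq, Set.image_pair, hd.gen]
    show Abar.comap π ≤ _
    rw [← h, Subgroup.comap_map_eq, hπ, QuotientGroup.ker_mk']
  let X₃ : Subgroup G := A ⊓ (Subgroup.centralizer ((A.map q : Subgroup (G ⧸ Φ)) : Set (G ⧸ Φ))).comap q
  have hmem3 : ∀ {a : G}, a ∈ A → (a ∈ X₃ ↔ ∀ b ∈ A, Commute (q a) (q b)) := fun {a} ha => by
    constructor
    · exact fun h b hb => (Subgroup.mem_centralizer_iff.1 h.2 _ ⟨b, hb, rfl⟩).symm
    · exact fun h => ⟨ha, Subgroup.mem_centralizer_iff.2 fun _ ⟨b, hb, e⟩ => e ▸ (h b hb).eq.symm⟩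
  have hX3 : X₃ = A := by
    refine eq_of_map (le_inf hQA fun v hv => Subgroup.mem_centralizer_iff.2 fun r _ => (hcen v hv r).eq.symm)
      (hd.maxA _ (Subgroup.map_le_iff_le_comap.2 inf_le_left) (mapInv D inf_le_left fun a ha r hr => ?_) ⟨t₀, ?_, rfl⟩)
    · refine (hmem3 (app_mem a hr.1)).2 fun b hb => ?_
      rw [← commutatorElement_eq_one_iff_commute, ← map_commutatorElement, ← app_app_inv a b,
        ← app_commutator a hr.1 (app_mem a⁻¹ hb)]
      refine (QuotientGroup.eq_one_iff _).2 (hΦA a ha _ ((QuotientGroup.eq_one_iff _).1 ?_))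
      show q _ = 1
      rw [map_commutatorElement, commutatorElement_eq_one_iff_commute]
      exact (hmem3 hr.1).1 hr _ (app_mem a⁻¹ hb)
    · refine (hmem3 htA).2 fun b hb => ?_
      have hle : Subgroup.closure ({z₀, y₀, t₀} : Set G) ⊔ Q ≤ (Subgroup.centralizer {q t₀}).comap q := by
        refine sup_le ((Subgroup.closure_le _).2 ?_) fun v hv =>
          Subgroup.mem_centralizer_singleton_iff.2 (hcen v hv _).eq
        rintro r (rfl | rfl | rfl) <;> refine Subgroup.mem_centralizer_singleton_iff.2 ?_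
        exacts [(commutatorElement_eq_one_iff_commute.1 hzt).eq, (commutatorElement_eq_one_iff_commute.1 hyt).eq, rfl]
      exact (Subgroup.mem_centralizer_singleton_iff.1 (hle (hgen hb))).symm
  have hab : ∀ a ∈ A, ∀ b ∈ A, Commute (q a) (q b) := fun a ha => (hmem3 ha).1 (hX3.ge ha)
  -- and elementary
  have hup : ∀ v ∈ Q, q v ^ p = 1 := fun v hv => by
    rw [← map_pow]; exact (QuotientGroup.eq_one_iff _).2 (pow_mem_phi hG hv)
  have hstep : ∀ a b : G, a ∈ A → b ∈ A → ∀ u ∈ Q, q x₀ * q a * (q x₀)⁻¹ = q a * q b * q u → q b ^ p = 1 :=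
    fun a b ha hb u hu h => by
      have h1 : (q x₀ * q a * (q x₀)⁻¹) ^ p = (q a * q b * q u) ^ p := congrArg (· ^ p) h
      rw [conj_pow, ← map_pow, ← (hcen _ (hpow a ha) (q x₀)).eq, mul_inv_cancel_right,
        (hcen u hu _).symm.mul_pow, hup u hu, mul_one, (hab a ha b hb).mul_pow, ← map_pow] at h1
      exact (left_eq_mul.1 h1)
  have hyp : q y₀ ^ p = 1 := hstep z₀ y₀ hzA hyA u₁ hu₁ r1
  have htp : q t₀ ^ p = 1 := hstep y₀ t₀ hyA htA u₂ hu₂ r2
  let X₄ : Subgroup G :=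
    { carrier := {a | a ∈ A ∧ q a ^ p = 1}
      one_mem' := ⟨one_mem _, by rw [map_one, one_pow]⟩
      mul_mem' := fun {a b} ha hb => ⟨mul_mem ha.1 hb.1, by
        rw [map_mul, (hab a ha.1 b hb.1).mul_pow, ha.2, hb.2, one_mul]⟩
      inv_mem' := fun {a} ha => ⟨inv_mem ha.1, by rw [map_inv, inv_pow, ha.2, inv_one]⟩ }
  have hX4 : X₄ = A := by
    refine eq_of_map (fun v hv => ⟨hQA hv, hup v hv⟩)
      (hd.maxA _ (Subgroup.map_le_iff_le_comap.2 fun r hr => hr.1) (mapInv D (fun r hr => hr.1) fun a ha r hr => ?_)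
        ⟨t₀, ⟨htA, htp⟩, rfl⟩)
    refine ⟨app_mem a hr.1, ?_⟩
    rw [← map_pow, ← app_pow a hr.1]
    exact (QuotientGroup.eq_one_iff _).2 (hΦA a ha _ ((QuotientGroup.eq_one_iff _).1
      (show q (r ^ p) = 1 by rw [map_pow]; exact hr.2)))
  haveI : (Φ.subgroupOf A).Normal := inferInstance
  have h := hsec A (Φ.subgroupOf A) ⊤ ⟨⟨fun a b => Subtype.ext ?_⟩⟩ fun a _ => ?_
  · rw [Subgroup.card_top, ← Subgroup.index_eq_card] at h
    have hc : Nat.card A = Nat.card Q * p ^ 3 := by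
      have e := A.card_mul_index
      rw [D.f.index A hA, ← Q.card_mul_index, Subgroup.index_eq_card, hd.cardG, pow_succ, ← mul_assoc] at e
      exact Nat.eq_of_mul_eq_mul_right hp.out.pos e
    have h1 := (Φ.subgroupOf A).card_mul_index
    rw [Nat.card_congr (Subgroup.subgroupOfEquivOfLe ((phi_le Q).trans hQA)).toEquiv, hc] at h1
    have h2 : Nat.card Q * p ^ 3 ≤ Nat.card Φ * p ^ 3 := h1 ▸ Nat.mul_le_mul_left _ h
    exact hQ1 (phi_eq_self (Subgroup.eq_of_le_of_card_ge (phi_le Q)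
      (Nat.le_of_mul_le_mul_right h2 (pow_pos hp.out.pos 3))).ge)
  · obtain ⟨a, ha⟩ := QuotientGroup.mk'_surjective (Φ.subgroupOf A) (a : A ⧸ Φ.subgroupOf A)
    obtain ⟨b, hb⟩ := QuotientGroup.mk'_surjective (Φ.subgroupOf A) (b : A ⧸ Φ.subgroupOf A)
    rw [Subgroup.coe_mul, Subgroup.coe_mul, ← ha, ← hb, ← map_mul, ← map_mul]
    refine QuotientGroup.eq.2 (show (((a * b)⁻¹ * (b * a) : A) : G) ∈ Φ from ?_)
    rw [Subgroup.coe_mul, Subgroup.coe_inv, Subgroup.coe_mul, Subgroup.coe_mul]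
    exact QuotientGroup.eq.1 (show q _ = q _ by rw [map_mul, map_mul]; exact hab _ a.2 _ b.2)
  · obtain ⟨a, rfl⟩ := QuotientGroup.mk'_surjective (Φ.subgroupOf A) a
    rw [← map_pow]
    refine (QuotientGroup.eq_one_iff _).2 (show ((a ^ p : A) : G) ∈ Φ from ?_)
    rw [SubmonoidClass.coe_pow]
    exact (QuotientGroup.eq_one_iff _).1 (show q _ = 1 by rw [map_pow]; exact (hX4.ge a.2).2)

end Cfsg.Agent.RankThreeChar
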